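import Cfsg.Agent.Lib.TwoFusion.ProductFusion.Main
import Cfsg.Agent.Lib.TwoFusion.DihedralProduct.Setup
import Cfsg.Agent.Lib.LocalEven.PClosed
import Cfsg.Agent.Lib.LocalEvenB.StronglyClosedComplement

/-!
Owner: helper14. Conjugates of elements of two strongly closed subgroups of a Sylow 2-subgroup which
commute elementwise and meet trivially commute modulo the odd core.
-/

set_option autoImplicit false

namespace CfsgLib.TwoFusion.ProductFusion

open Subgroup Cfsg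
open CfsgLib.Signalizer (involution_sq involution_ne_one orderOf_eq_two_of orderOf_conj)
open CfsgLib.TwoFusion.DihedralProduct (involClass involClass_conj mem_involClass_iff smul_coe
  central_of_isolated oddCore_quotient_central coprime_two_group map_eq_iff)
open scoped commutatorElement

universe u

variable {G : Type u} [Group G]

/-- Two strongly closed subgroups, commuting elementwise, with trivial intersection. -/
structure ClosedPair (S : Sylow 2 G) (S₁ S₂ : Subgroup G) : Prop where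
  cl₁ : IsStronglyClosed S₁ (S : Subgroup G)
  cl₂ : IsStronglyClosed S₂ (S : Subgroup G)
  comm : ∀ a ∈ S₁, ∀ b ∈ S₂, a * b = b * a
  disj : S₁ ⊓ S₂ = ⊥

/-- All conjugates of the first subgroup commute with the second. -/
def Conclusion (S₁ S₂ : Subgroup G) : Prop :=
  ∀ a ∈ S₁, ∀ b ∈ S₂, ∀ g : G, Commute (g * a * g⁻¹) b

theorem Conclusion.swap {S₁ S₂ : Subgroup G} (h : Conclusion S₂ S₁) : Conclusion S₁ S₂ := by
  intro a ha b hb g
  have := (commute_conj (h b hb a ha g⁻¹) g).symm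
  rwa [inv_inv, show g * (g⁻¹ * b * g) * g⁻¹ = b by group] at this

theorem ClosedPair.swap {S : Sylow 2 G} {S₁ S₂ : Subgroup G} (h : ClosedPair S S₁ S₂) :
    ClosedPair S S₂ S₁ :=
  ⟨h.cl₂, h.cl₁, fun a ha b hb => (h.comm b hb a ha).symm, by rw [inf_comm]; exact h.disj⟩

/-- The induction hypothesis below `n`. -/
def Below (n : ℕ) : Prop :=
  ∀ (H : Type u) [Group H] [Finite H], Nat.card H < n →
    ∀ (S : Sylow 2 H) (S₁ S₂ : Subgroup H), ClosedPair S S₁ S₂ →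
      ∀ a ∈ S₁, ∀ b ∈ S₂, ∀ g : H, ⁅g * a * g⁻¹, b⁆ ∈ oddCore H

variable [Finite G] {S : Sylow 2 G} {S₁ S₂ : Subgroup G}

theorem exists_center_of_closed {D : Subgroup G} (hD : IsStronglyClosed D (S : Subgroup G))
    (hne : D ≠ ⊥) : ∃ z ∈ D, orderOf z = 2 ∧ ∀ s ∈ (S : Subgroup G), Commute s z := by
  haveI : Fact (Nat.Prime 2) := ⟨Nat.prime_two⟩
  haveI hn : (D.subgroupOf (S : Subgroup G)).Normal := ⟨fun a ha s => by
    refine mem_subgroupOf.2 (hD.2 _ (mem_subgroupOf.1 ha) s ?_)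
    exact mul_mem (mul_mem s.2 a.2) (inv_mem s.2)⟩
  have hne' : D.subgroupOf (S : Subgroup G) ≠ ⊥ := fun e => hne (by
    rw [← map_subgroupOf_eq_of_le hD.1, e, Subgroup.map_bot])
  set E := D.subgroupOf (S : Subgroup G) ⊓ center (S : Subgroup G) with hE
  haveI : Nontrivial E := (nontrivial_iff_ne_bot _).2 (CfsgLib.PGroups.inf_center_ne_bot S.2 hne')
  obtain ⟨t, ht⟩ := exists_prime_orderOf_dvd_card' (G := E) 2 (by
    obtain ⟨n, hn⟩ := IsPGroup.iff_card.1 (S.2.to_subgroup E)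
    rw [hn]
    refine dvd_pow_self 2 fun h0 => ?_
    rw [h0, pow_zero] at hn
    exact (Finite.one_lt_card (α := E)).ne' hn)
  refine ⟨((t : (S : Subgroup G)) : G), mem_subgroupOf.1 t.2.1, ?_, fun s hs => ?_⟩
  · rw [Subgroup.orderOf_coe, Subgroup.orderOf_coe, ht]
  · exact congrArg Subtype.val (mem_center_iff.1 t.2.2 ⟨s, hs⟩)

theorem closed_inf {D : Subgroup G} (hD : IsStronglyClosed D (S : Subgroup G)) (N : Subgroup G)
    [hN : N.Normal] : IsStronglyClosed (D ⊓ N) (S : Subgroup G) :=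
  ⟨inf_le_left.trans hD.1, fun x hx g hg => ⟨hD.2 x hx.1 g hg, hN.conj_mem x hx.2 g⟩⟩

/-- Conjugates of elements of `D ∩ N` are conjugates by elements of `N` of elements of `D ∩ N`. -/
theorem frattini {D : Subgroup G} (hD : IsStronglyClosed D (S : Subgroup G)) (N : Subgroup G)
    [hN : N.Normal] {t : G} (ht : t ∈ D) (htN : t ∈ N) (g : G) :
    ∃ k ∈ N, ∃ t' ∈ D ⊓ N, g * t * g⁻¹ = k * t' * k⁻¹ := by
  haveI : Fact (Nat.Prime 2) := ⟨Nat.prime_two⟩
  obtain ⟨T, hT⟩ := CfsgLib.LocalEven.exists_sylow_inf S N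
  have hg : g ∈ normalizer (((S : Subgroup G) ⊓ N : Subgroup G) : Set G) ⊔ N := by
    rw [← hT, Sylow.normalizer_sup_eq_top T]; exact mem_top g
  rw [sup_comm, mem_sup_of_normal_left] at hg
  obtain ⟨k, hk, n, hn, rfl⟩ := hg
  have hnt : n * t * n⁻¹ ∈ (S : Subgroup G) ⊓ N := (mem_normalizer_iff.1 hn t).1 ⟨hD.1 ht, htN⟩
  exact ⟨k, hk, n * t * n⁻¹, ⟨hD.2 t ht n hnt.1, hnt.2⟩, by group⟩

/-- A subgroup of odd order normalised by `N ⊔ S`, with `N` normal in a coreless group, is trivial. -/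
theorem eq_bot_of_odd_sup (hO : oddCore G = ⊥) (N : Subgroup G) [N.Normal] {D : Subgroup G}
    (hD : Odd (Nat.card D)) (hle : D ≤ N ⊔ (S : Subgroup G))
    (hn : N ⊔ (S : Subgroup G) ≤ normalizer (D : Set G)) : D = ⊥ := by
  haveI : Fact (Nat.Prime 2) := ⟨Nat.prime_two⟩
  have hbot := inf_eq_bot_of_le_normalizer hO N D hD (le_sup_left.trans hn)
  have h1 := CfsgLib.Core.card_sup_mul_card_inf D N (CfsgLib.Core.le_normalizer_of_normal _ N)
  rw [inf_comm, hbot, card_bot, mul_one] at h1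
  have h2 := CfsgLib.Core.card_sup_mul_card_inf (S : Subgroup G) N
    (CfsgLib.Core.le_normalizer_of_normal _ N)
  have h3 : Nat.card ↥(D ⊔ N) ∣ Nat.card ↥((S : Subgroup G) ⊔ N) :=
    card_dvd_of_le (sup_le (hle.trans (sup_comm N _).le) le_sup_right)
  have h4 : Nat.card D * Nat.card N ∣ Nat.card (S : Subgroup G) * Nat.card N := by
    rw [← h1, ← h2]
    exact h3.trans (dvd_mul_right _ _)
  obtain ⟨n, hS⟩ := IsPGroup.iff_card.1 S.2
  rw [hS] at h4
  have h5 := Nat.dvd_of_mul_dvd_mul_right Nat.card_pos h4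
  rw [← Subgroup.card_eq_one]
  exact Nat.eq_one_of_dvd_coprimes (Nat.Coprime.pow_right n (Nat.coprime_two_right.2 hD)) dvd_rfl h5

theorem oddCore_normal_bot (hO : oddCore G = ⊥) (N : Subgroup G) [N.Normal] : oddCore N = ⊥ := by
  have h := CfsgLib.Core.map_subtype_pPrimeCore_le (p := 2) N
  exact (Subgroup.map_eq_bot_iff_of_injective _ N.subtype_injective).1 (le_bot_iff.1 (h.trans hO.le))

theorem oddCore_sup_bot (hO : oddCore G = ⊥) (N : Subgroup G) [N.Normal] :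
    oddCore ↥(N ⊔ (S : Subgroup G)) = ⊥ := by
  set H := N ⊔ (S : Subgroup G) with hH
  refine (Subgroup.map_eq_bot_iff_of_injective _ H.subtype_injective).1
    (eq_bot_of_odd_sup (S := S) hO N ?_ (map_subtype_le _) ?_)
  · rw [card_map_of_injective H.subtype_injective]
    exact CfsgLib.ZStar.odd_card_oddCore H
  · rw [le_normalizer_iff]
    rintro m hm _ ⟨k, hk, rfl⟩
    exact ⟨⟨m, hm⟩ * k * ⟨m, hm⟩⁻¹, (inferInstance : (oddCore H).Normal).conj_mem _ hk _, rfl⟩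

/-- The induction hypothesis in a proper subgroup. -/
theorem ClosedPair.sub (h : ClosedPair S S₁ S₂) (IH : Below.{u} (Nat.card G)) {H : Subgroup G}
    (hH : H ≠ ⊤) (T : Sylow 2 H) (hT : (T : Subgroup H).map H.subtype ≤ (S : Subgroup G)) {a b k : G}
    (ha : a ∈ S₁) (haT : a ∈ (T : Subgroup H).map H.subtype) (hb : b ∈ S₂)
    (hbT : b ∈ (T : Subgroup H).map H.subtype) (hk : k ∈ H) :
    ⁅k * a * k⁻¹, b⁆ ∈ (oddCore H).map H.subtype := by
  have hlt : Nat.card H < Nat.card G :=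
    lt_of_le_of_ne (card_le_card_group H) fun e => hH ((card_eq_iff_eq_top H).1 e)
  have hcl : ∀ {D : Subgroup G}, IsStronglyClosed D (S : Subgroup G) →
      IsStronglyClosed (D.subgroupOf H ⊓ (T : Subgroup H)) (T : Subgroup H) := fun {D} hD =>
    ⟨inf_le_right, fun x hx g hg =>
      ⟨mem_subgroupOf.2 (hD.2 x (mem_subgroupOf.1 hx.1) g (hT (mem_map_of_mem H.subtype hg))), hg⟩⟩
  have hp : ClosedPair T (S₁.subgroupOf H ⊓ (T : Subgroup H)) (S₂.subgroupOf H ⊓ (T : Subgroup H)) :=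
    ⟨hcl h.cl₁, hcl h.cl₂, fun x hx y hy => Subtype.ext (h.comm x (mem_subgroupOf.1 hx.1) y
      (mem_subgroupOf.1 hy.1)), (eq_bot_iff_forall _).2 fun x hx => Subtype.ext (mem_bot.1
        (h.disj.le ⟨mem_subgroupOf.1 hx.1.1, mem_subgroupOf.1 hx.2.1⟩))⟩
  obtain ⟨a', ha', rfl⟩ := haT
  obtain ⟨b', hb', rfl⟩ := hbT
  exact ⟨_, IH H hlt T _ _ hp a' ⟨mem_subgroupOf.2 ha, ha'⟩ b' ⟨mem_subgroupOf.2 hb, hb'⟩ ⟨k, hk⟩, rfl⟩

theorem ClosedPair.sup_case (h : ClosedPair S S₁ S₂) (IH : Below.{u} (Nat.card G)) (hO : oddCore G = ⊥)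
    (N : Subgroup G) [N.Normal] (hN : N ⊔ (S : Subgroup G) ≠ ⊤) {a b k : G} (ha : a ∈ S₁) (hb : b ∈ S₂)
    (hk : k ∈ N ⊔ (S : Subgroup G)) : Commute (k * a * k⁻¹) b := by
  have hle : (S : Subgroup G) ≤ N ⊔ (S : Subgroup G) := le_sup_right
  have hT : ((S.subtype hle : Sylow 2 ↥(N ⊔ (S : Subgroup G))) : Subgroup ↥(N ⊔ (S : Subgroup G))).map
      (N ⊔ (S : Subgroup G)).subtype = (S : Subgroup G) := by
    rw [Sylow.coe_subtype, map_subgroupOf_eq_of_le hle]
  have := h.sub IH hN (S.subtype hle) hT.le ha (hT.symm ▸ h.cl₁.1 ha) hb (hT.symm ▸ h.cl₂.1 hb) hk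
  rw [oddCore_sup_bot hO N, Subgroup.map_bot, mem_bot] at this
  exact commutatorElement_eq_one_iff_commute.1 this

theorem ClosedPair.inf_case (h : ClosedPair S S₁ S₂) (IH : Below.{u} (Nat.card G)) (hO : oddCore G = ⊥)
    (N : Subgroup G) [N.Normal] (hN : N ≠ ⊤) {a b k : G} (ha : a ∈ S₁) (haN : a ∈ N) (hb : b ∈ S₂)
    (hbN : b ∈ N) (hk : k ∈ N) : Commute (k * a * k⁻¹) b := by
  haveI : Fact (Nat.Prime 2) := ⟨Nat.prime_two⟩
  obtain ⟨T, hT⟩ := CfsgLib.LocalEven.exists_sylow_inf S N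
  have := h.sub IH hN T (hT.le.trans inf_le_left) ha (hT.symm ▸ ⟨h.cl₁.1 ha, haN⟩) hb
    (hT.symm ▸ ⟨h.cl₂.1 hb, hbN⟩) hk
  rw [oddCore_normal_bot hO N, Subgroup.map_bot, mem_bot] at this
  exact commutatorElement_eq_one_iff_commute.1 this

/-- An involution of `Z(S)` without other conjugate in `S` is central. -/
theorem mem_center_of_isolated (hO : oddCore G = ⊥) {a : G} (ha2 : orderOf a = 2)
    (haS : a ∈ (S : Subgroup G)) (hiso : ∀ g : G, g * a * g⁻¹ ∈ (S : Subgroup G) → g * a * g⁻¹ = a) :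
    a ∈ center G :=
  central_of_isolated hO S ha2 haS hiso

theorem isolated_of_sup (h : ClosedPair S S₁ S₂) (N : Subgroup G) [hN : N.Normal]
    (htop : N ⊔ (S : Subgroup G) = ⊤) (hbot : S₁ ⊓ N = ⊥) {a : G} (ha : a ∈ S₁)
    (hac : ∀ s ∈ (S : Subgroup G), Commute s a) (g : G) (hg : g * a * g⁻¹ ∈ (S : Subgroup G)) :
    g * a * g⁻¹ = a := by
  have hg' : g ∈ N ⊔ (S : Subgroup G) := htop ▸ mem_top g
  rw [mem_sup_of_normal_left] at hg'
  obtain ⟨k, hk, s, hs, rfl⟩ := hg'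
  have e : k * s * a * (k * s)⁻¹ = k * a * k⁻¹ := by
    rw [show k * s * a * (k * s)⁻¹ = k * (s * a * s⁻¹) * k⁻¹ by group, (hac s hs).eq, mul_inv_cancel_right]
  rw [e] at hg ⊢
  have hmem : k * a * k⁻¹ * a⁻¹ ∈ S₁ ⊓ N :=
    ⟨S₁.mul_mem (h.cl₁.2 a ha k hg) (S₁.inv_mem ha), by
      rw [mul_assoc k a k⁻¹, mul_assoc]; exact mul_mem hk (hN.conj_mem _ (inv_mem hk) a)⟩
  rw [hbot, mem_bot] at hmem
  exact mul_inv_eq_one.1 hmem

/-- A central involution reduces the statement to the quotient by it. -/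
theorem ClosedPair.of_center_disjoint (h : ClosedPair S S₁ S₂) (IH : Below.{u} (Nat.card G))
    (hO : oddCore G = ⊥) {c : G} (hc : c ∈ center G) (hc2 : orderOf c = 2)
    (hd : ∀ a ∈ S₁, ∀ b ∈ S₂, a⁻¹ * b = c → a = 1 ∨ a = c) : Conclusion S₁ S₂ := by
  haveI : Fact (Nat.Prime 2) := ⟨Nat.prime_two⟩
  intro a ha b hb g
  set Z := zpowers c with hZ
  have hZc : Z ≤ center G := zpowers_le.2 hc
  haveI : Z.Normal := ⟨fun v hv q => by rwa [mem_center_iff.1 (hZc hv) q, mul_inv_cancel_right]⟩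
  have hZ2 : IsPGroup 2 Z := IsPGroup.of_card (n := 1) (by rw [Nat.card_zpowers, hc2, pow_one])
  have hcard : Nat.card Z = 2 := by rw [Nat.card_zpowers, hc2]
  have hZS : Z ≤ (S : Subgroup G) := (CfsgLib.Core.le_pCore hZ2).trans (CfsgLib.Core.pCore_le_sylow S)
  have hmemZ : ∀ v ∈ Z, v = 1 ∨ v = c := by
    intro v hv
    obtain ⟨i, rfl⟩ := mem_zpowers_iff.1 hv
    rcases Int.even_or_odd i with ⟨e, rfl⟩ | ⟨e, rfl⟩
    · left; rw [← two_mul, zpow_mul, zpow_two, involution_sq hc2, one_zpow]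
    · right; rw [zpow_add, zpow_mul, zpow_two, involution_sq hc2, one_zpow, one_mul, zpow_one]
  set π := QuotientGroup.mk' Z with hπ
  have hπs : Function.Surjective π := QuotientGroup.mk'_surjective Z
  have hlt : Nat.card (G ⧸ Z) < Nat.card G := by
    rw [card_eq_card_quotient_mul_card_subgroup Z, hcard]
    have : 0 < Nat.card (G ⧸ Z) := Nat.card_pos
    omega
  have hO' : oddCore (G ⧸ Z) = ⊥ := oddCore_quotient_central Z hZc hZ2 hO
  have hπ1 : ∀ v, π v = 1 → v = 1 ∨ v = c := fun v hv => hmemZ v ((QuotientGroup.eq_one_iff v).1 hv)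
  have hcl : ∀ {D : Subgroup G}, IsStronglyClosed D (S : Subgroup G) →
      IsStronglyClosed (D.map π) ((S.mapSurjective hπs : Sylow 2 (G ⧸ Z)) : Subgroup (G ⧸ Z)) := by
    intro D hD
    rw [Sylow.coe_mapSurjective]
    refine ⟨map_mono hD.1, ?_⟩
    rintro _ ⟨v, hv, rfl⟩ q hq
    obtain ⟨k, rfl⟩ := hπs q
    obtain ⟨s, hs, hse⟩ := hq
    have hker : π (s⁻¹ * (k * v * k⁻¹)) = 1 := by
      rw [map_mul, map_inv, hse, map_mul, map_mul, map_inv, inv_mul_cancel]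
    have hmem : k * v * k⁻¹ ∈ (S : Subgroup G) := by
      have := mul_mem hs (hZS ((QuotientGroup.eq_one_iff _).1 hker))
      rwa [mul_inv_cancel_left] at this
    exact ⟨k * v * k⁻¹, hD.2 v hv k hmem, by rw [map_mul, map_mul, map_inv]⟩
  have hp : ClosedPair (S.mapSurjective hπs) (S₁.map π) (S₂.map π) := by
    refine ⟨hcl h.cl₁, hcl h.cl₂, ?_, (eq_bot_iff_forall _).2 ?_⟩
    · rintro _ ⟨x, hx, rfl⟩ _ ⟨y, hy, rfl⟩
      rw [← map_mul, h.comm x hx y hy, map_mul]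
    · rintro _ ⟨⟨x, hx, rfl⟩, y, hy, hyx⟩
      rcases hπ1 (x⁻¹ * y) (by rw [map_mul, map_inv, hyx, inv_mul_cancel]) with e | e
      · have hxy : x = y := inv_mul_eq_one.1 e
        have : x ∈ S₁ ⊓ S₂ := ⟨hx, hxy ▸ hy⟩
        rw [h.disj, mem_bot] at this
        rw [this, map_one]
      · rcases hd x hx y hy e with rfl | rfl
        · exact map_one π
        · exact (QuotientGroup.eq_one_iff _).2 (mem_zpowers _)
  have hmod := IH (G ⧸ Z) hlt _ _ _ hp _ (mem_map_of_mem π ha) _ (mem_map_of_mem π hb) (π g)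
  rw [hO', mem_bot, ← map_inv, ← map_mul, ← map_mul, ← map_commutatorElement] at hmod
  have hcom : ⁅g * a * g⁻¹, b⁆ ∈ Z := (QuotientGroup.eq_one_iff _).1 hmod
  -- the two elements generate a 2-group
  set a' := g * a * g⁻¹ with ha'
  have hpz : ∀ v : G, IsPGroup 2 (zpowers v) ↔ ∃ n : ℕ, orderOf v = 2 ^ n := fun v => by
    rw [IsPGroup.iff_card, Nat.card_zpowers]
  have hpa : IsPGroup 2 (zpowers a') := by
    rw [hpz, ha', orderOf_conj, ← hpz]
    exact S.2.to_le (zpowers_le.2 (h.cl₁.1 ha))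
  have hU : IsPGroup 2 ↥(zpowers a' ⊔ Z) := hpa.to_sup_of_normal_right hZ2
  have hbn : zpowers b ≤ normalizer ((zpowers a' ⊔ Z : Subgroup G) : Set G) := by
    rw [zpowers_le]
    refine map_eq_iff.1 (Subgroup.eq_of_le_of_card_ge ?_
      (card_map_of_injective (MulAut.conj b).injective).ge)
    rw [Subgroup.map_sup, MonoidHom.map_zpowers]
    refine sup_le (zpowers_le.2 ?_) ?_
    · show b * a' * b⁻¹ ∈ zpowers a' ⊔ Z
      have e : b * a' * b⁻¹ = ⁅a', b⁆⁻¹ * a' := by rw [commutatorElement_def]; group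
      rw [e]
      exact mul_mem (mem_sup_right (inv_mem hcom)) (mem_sup_left (mem_zpowers _))
    · rintro _ ⟨v, hv, rfl⟩
      exact mem_sup_right ((inferInstance : Z.Normal).conj_mem v hv b)
  have hV : IsPGroup 2 ↥(zpowers b ⊔ (zpowers a' ⊔ Z)) :=
    (S.2.to_le (zpowers_le.2 (h.cl₂.1 hb))).to_sup_of_normal_right' hU hbn
  obtain ⟨k, hk⟩ := CfsgLib.Techniques.exists_conj_mem_sylow S hV
  have h1 : k * a' * k⁻¹ ∈ S₁ := by
    have e : k * a' * k⁻¹ = k * g * a * (k * g)⁻¹ := by rw [ha']; group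
    rw [e]
    exact h.cl₁.2 a ha (k * g) (e ▸ hk a' (mem_sup_right (mem_sup_left (mem_zpowers _))))
  have h2 : k * b * k⁻¹ ∈ S₂ := h.cl₂.2 b hb k (hk b (mem_sup_left (mem_zpowers _)))
  have h3 := commute_conj (h.comm _ h1 _ h2) k⁻¹
  rwa [inv_inv, show k⁻¹ * (k * a' * k⁻¹) * k = a' by group,
    show k⁻¹ * (k * b * k⁻¹) * k = b by group] at h3

theorem ClosedPair.of_center_mem (h : ClosedPair S S₁ S₂) (IH : Below.{u} (Nat.card G))
    (hO : oddCore G = ⊥) {c : G} (hc : c ∈ center G) (hc2 : orderOf c = 2) (hc1 : c ∈ S₁) :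
    Conclusion S₁ S₂ :=
  h.of_center_disjoint IH hO hc hc2 fun a ha b hb e => Or.inr (by
    have hb1 : b ∈ S₁ ⊓ S₂ := ⟨by
      have := mul_mem ha hc1
      rwa [← e, mul_inv_cancel_left] at this, hb⟩
    rw [h.disj, mem_bot] at hb1
    rw [hb1, mul_one] at e
    rw [← inv_inv a, e, CfsgLib.Signalizer.involution_inv hc2])

theorem ClosedPair.of_center (h : ClosedPair S S₁ S₂) (IH : Below.{u} (Nat.card G))
    (hO : oddCore G = ⊥) {c : G} (hc : c ∈ center G) (hc2 : orderOf c = 2) : Conclusion S₁ S₂ := by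
  by_cases hd : ∀ a ∈ S₁, ∀ b ∈ S₂, a⁻¹ * b = c → a = 1 ∨ a = c
  · exact h.of_center_disjoint IH hO hc hc2 hd
  push Not at hd
  obtain ⟨a, ha, b, hb, e, ha1, -⟩ := hd
  have hbe : b = a * c := by rw [← e, mul_inv_cancel_left]
  have hca : Commute a c := mem_center_iff.1 hc a
  have ha2 : orderOf a = 2 := by
    refine orderOf_eq_two_of ha1 ?_
    have : a * a ∈ S₁ ⊓ S₂ := ⟨mul_mem ha ha, by
      have := mul_mem hb hb
      rwa [hbe, mul_assoc a c, ← mul_assoc c a c, ← hca.eq, mul_assoc a c c, involution_sq hc2,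
        mul_one] at this⟩
    rwa [h.disj, mem_bot] at this
  refine h.of_center_mem IH hO (mem_center_of_isolated hO ha2 (h.cl₁.1 ha) fun g hg => ?_) ha2 ha
  have hgb : g * b * g⁻¹ = g * a * g⁻¹ * c := by
    rw [hbe, ← mul_assoc g a c, mul_assoc (g * a) c g⁻¹, ← mem_center_iff.1 hc g⁻¹, ← mul_assoc]
  have hcS : c ∈ (S : Subgroup G) := by
    have := mul_mem (inv_mem (h.cl₁.1 ha)) (h.cl₂.1 hb)
    rwa [e] at this
  have hb' := h.cl₂.2 b hb g (hgb ▸ mul_mem hg hcS)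
  have hmem : g * a * g⁻¹ * a⁻¹ ∈ S₁ ⊓ S₂ := ⟨S₁.mul_mem (h.cl₁.2 a ha g hg) (S₁.inv_mem ha), by
    have h2 := mul_mem hb' (inv_mem hb)
    rwa [hgb, hbe, hca.eq, mul_inv_rev, ← mul_assoc, mul_assoc (g * a * g⁻¹) c a⁻¹,
      ← mem_center_iff.1 hc a⁻¹, ← mul_assoc, mul_inv_cancel_right] at h2⟩
  rw [h.disj, mem_bot] at hmem
  exact mul_inv_eq_one.1 hmem

/-- A proper normal closure of the second subgroup. -/
theorem ClosedPair.of_normalClosure (h : ClosedPair S S₁ S₂) (IH : Below.{u} (Nat.card G))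
    (hO : oddCore G = ⊥) (hcen : ∀ c ∈ center G, c = 1) (h1 : S₁ ≠ ⊥)
    (hN : normalClosure (S₂ : Set G) ≠ ⊤) :
    Conclusion S₁ S₂ := by
  haveI : Fact (Nat.Prime 2) := ⟨Nat.prime_two⟩
  set N := normalClosure (S₂ : Set G) with hNdef
  have hS₂N : S₂ ≤ N := fun v hv => subset_normalClosure hv
  by_cases htop : N ⊔ (S : Subgroup G) = ⊤
  · exfalso
    by_cases hbot : S₁ ⊓ N = ⊥
    · obtain ⟨z, hz, hz2, hzc⟩ := exists_center_of_closed h.cl₁ h1
      exact involution_ne_one hz2 (hcen z (mem_center_of_isolated hO hz2 (h.cl₁.1 hz)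
        (isolated_of_sup h N htop hbot hz hzc)))
    · obtain ⟨z, hz, hz2, hzc⟩ := exists_center_of_closed (closed_inf h.cl₁ N) hbot
      have hle : N ≤ centralizer ({z} : Set G) := (closure_le _).2 fun w hw => by
        obtain ⟨v, hv, hvw⟩ := Group.mem_conjugatesOfSet_iff.1 hw
        obtain ⟨g, rfl⟩ := isConj_iff.1 hvw
        obtain ⟨k, hk, t, ht, e⟩ := frattini h.cl₂ N hv (hS₂N hv) g
        rw [e]
        exact mem_centralizer_singleton_iff.2 (h.swap.inf_case IH hO N hN ht.1 ht.2 hz.1 hz.2 hk).eq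
      refine involution_ne_one hz2 (hcen z (mem_center_iff.2 fun g => ?_))
      have hall : N ⊔ (S : Subgroup G) ≤ centralizer ({z} : Set G) :=
        sup_le hle fun s hs => mem_centralizer_singleton_iff.2 (hzc s hs).eq
      exact mem_centralizer_singleton_iff.1 (hall (htop ▸ mem_top g))
  · refine Conclusion.swap fun b hb a ha g => ?_
    obtain ⟨k, hk, t, ht, e⟩ := frattini h.cl₂ N hb (hS₂N hb) g
    rw [e]
    exact h.swap.sup_case IH hO N htop ht.1 ha (mem_sup_left hk)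

/-- A proper normal subgroup meeting the first subgroup. -/
theorem ClosedPair.false_of_normal (h : ClosedPair S S₁ S₂) (IH : Below.{u} (Nat.card G))
    (hO : oddCore G = ⊥) (hcen : ∀ c ∈ center G, c = 1) (h2 : S₂ ≠ ⊥)
    (hN₂ : normalClosure (S₂ : Set G) = ⊤) (K : Subgroup G) [K.Normal] (hK : K ≠ ⊤)
    (hne : S₁ ⊓ K ≠ ⊥) : False := by
  haveI : Fact (Nat.Prime 2) := ⟨Nat.prime_two⟩
  set R := normalClosure ((S₁ ⊓ K : Subgroup G) : Set G) with hR
  have hRK : R ≤ K := normalClosure_le_normal fun v hv => hv.2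
  have hR1 : R ≠ ⊥ := fun e => hne (eq_bot_iff.2 fun v hv => e ▸ subset_normalClosure hv)
  have hgen : ∀ (C : Subgroup G), (∀ k ∈ R, ∀ t ∈ S₁ ⊓ K, k * t * k⁻¹ ∈ C) → R ≤ C := by
    intro C hC
    refine (closure_le _).2 fun w hw => ?_
    obtain ⟨v, hv, hvw⟩ := Group.mem_conjugatesOfSet_iff.1 hw
    obtain ⟨g, rfl⟩ := isConj_iff.1 hvw
    obtain ⟨k, hk, t, ht, e⟩ := frattini h.cl₁ R hv.1 (subset_normalClosure hv) g
    rw [e]
    exact hC k hk t ⟨ht.1, hRK ht.2⟩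
  by_cases htop : R ⊔ (S : Subgroup G) = ⊤
  · by_cases hbot : S₂ ⊓ R = ⊥
    · obtain ⟨z, hz, hz2, hzc⟩ := exists_center_of_closed h.cl₂ h2
      exact involution_ne_one hz2 (hcen z (mem_center_of_isolated hO hz2 (h.cl₂.1 hz)
        (isolated_of_sup h.swap R htop hbot hz hzc)))
    obtain ⟨z, hz, hz2, hzc⟩ := exists_center_of_closed (closed_inf h.cl₂ R) hbot
    have hle : R ≤ centralizer ({z} : Set G) := hgen _ fun k hk t ht =>
      mem_centralizer_singleton_iff.2 (h.inf_case IH hO K hK ht.1 ht.2 hz.1 (hRK hz.2) (hRK hk)).eq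
    refine involution_ne_one hz2 (hcen z (mem_center_iff.2 fun g => ?_))
    have hall : R ⊔ (S : Subgroup G) ≤ centralizer ({z} : Set G) :=
      sup_le hle fun s hs => mem_centralizer_singleton_iff.2 (hzc s hs).eq
    exact mem_centralizer_singleton_iff.1 (hall (htop ▸ mem_top g))
  · have hle : R ≤ centralizer (S₂ : Set G) := hgen _ fun k hk t ht =>
      mem_centralizer_iff.2 fun b hb => (h.sup_case IH hO R htop ht.1 hb (mem_sup_left hk)).eq.symm
    have hS₂ : normalClosure (S₂ : Set G) ≤ centralizer (R : Set G) :=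
      normalClosure_le_normal fun b hb => mem_centralizer_iff.2 fun v hv =>
        (mem_centralizer_iff.1 (hle hv) b hb).symm
    rw [hN₂] at hS₂
    exact hR1 ((eq_bot_iff_forall _).2 fun v hv => hcen v (mem_center_iff.2 fun g =>
      (mem_centralizer_iff.1 (hS₂ (mem_top g)) v hv).symm))

/-- Conjugation carries a split Sylow subgroup to another. -/
theorem Split.conj {I₁ I₂ : Set G} (h₁ : ∀ x ∈ I₁, ∀ g : G, g * x * g⁻¹ ∈ I₁)
    (h₂ : ∀ x ∈ I₂, ∀ g : G, g * x * g⁻¹ ∈ I₂) (h : Split I₁ I₂ S S₁ S₂) (g : G) :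
    Split I₁ I₂ (g • S) (S₁.map (MulAut.conj g).toMonoidHom) (S₂.map (MulAut.conj g).toMonoidHom) := by
  set f := (MulAut.conj g).toMonoidHom with hf
  have hfi : Function.Injective f := (MulAut.conj g).injective
  have hcl : ∀ {D : Subgroup G}, IsStronglyClosed D (S : Subgroup G) →
      IsStronglyClosed (D.map f) ((g • S : Sylow 2 G) : Subgroup G) := by
    intro D hD
    rw [DihedralProduct.smul_coe]
    refine ⟨map_mono hD.1, ?_⟩
    rintro _ ⟨v, hv, rfl⟩ k ⟨s, hs, hse⟩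
    have e : g⁻¹ * k * g * v * (g⁻¹ * k * g)⁻¹ = s := by
      rw [show g⁻¹ * k * g * v * (g⁻¹ * k * g)⁻¹ = g⁻¹ * (k * (g * v * g⁻¹) * k⁻¹) * g by group]
      show g⁻¹ * (k * f v * k⁻¹) * g = s
      rw [← hse]
      show g⁻¹ * (g * s * g⁻¹) * g = s
      group
    exact ⟨s, e ▸ hD.2 v hv _ (e ▸ hs), hse⟩
  have hmem : ∀ {I : Set G} {D : Subgroup G}, (∀ x ∈ I, ∀ k : G, k * x * k⁻¹ ∈ I) →
      (∀ x ∈ (S : Subgroup G), (x ∈ I ↔ orderOf x = 2 ∧ x ∈ D)) →
      ∀ x ∈ ((g • S : Sylow 2 G) : Subgroup G), (x ∈ I ↔ orderOf x = 2 ∧ x ∈ D.map f) := by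
    intro I D hI hD x hx
    rw [DihedralProduct.smul_coe] at hx
    obtain ⟨x, hx, rfl⟩ := hx
    rw [orderOf_injective f hfi, mem_map_iff_mem hfi, ← hD x hx]
    refine ⟨fun h' => ?_, fun h' => hI x h' g⟩
    have e : g⁻¹ * f x * g⁻¹⁻¹ = x := by
      show g⁻¹ * (g * x * g⁻¹) * g⁻¹⁻¹ = x
      group
    exact e ▸ hI _ h' g⁻¹
  refine ⟨hcl h.cl₁, hcl h.cl₂, ?_, ?_, hmem h₁ h.mem₁, hmem h₂ h.mem₂⟩
  · rintro _ ⟨a, ha, rfl⟩ _ ⟨b, hb, rfl⟩
    exact ((h.commute ha hb).map f).eq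
  · rw [← Subgroup.map_inf _ _ f hfi, h.disj, Subgroup.map_bot]

theorem ClosedPair.false_of_simple [IsSimpleGroup G] (h : ClosedPair S S₁ S₂)
    (IH : Below.{u} (Nat.card G)) (hO : oddCore G = ⊥) (hcen : ∀ c ∈ center G, c = 1)
    (h1 : S₁ ≠ ⊥) (h2 : S₂ ≠ ⊥) : False := by
  haveI : Fact (Nat.Prime 2) := ⟨Nat.prime_two⟩
  set I₁ := involClass S₁ with hI₁
  set I₂ := involClass S₂ with hI₂
  have hsp : Split I₁ I₂ S S₁ S₂ := ⟨h.cl₁, h.cl₂, h.comm, h.disj,
    fun _ hx => mem_involClass_iff h.cl₁ hx, fun _ hx => mem_involClass_iff h.cl₂ hx⟩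
  have hes : ∀ Q : Subgroup G, IsPGroup 2 Q →
      ∃ P : Sylow 2 G, ∃ P₁ P₂ : Subgroup G, Q ≤ (P : Subgroup G) ∧ Split I₁ I₂ P P₁ P₂ := by
    intro Q hQ
    obtain ⟨g, hg⟩ := CfsgLib.Techniques.exists_conj_mem_sylow S hQ
    refine ⟨g⁻¹ • S, _, _, fun q hq => ?_,
      hsp.conj (fun x hx => involClass_conj hx) (fun x hx => involClass_conj hx) g⁻¹⟩
    rw [DihedralProduct.smul_coe, CfsgLib.Techniques.mem_map_conj_iff, inv_inv]
    exact hg q hq
  have c : Ctx I₁ I₂ := ⟨fun x hx => hx.1, fun x hx => hx.1, fun x hx => involClass_conj hx,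
    fun x hx => involClass_conj hx, hes, ?_, hcen, hO⟩
  · obtain ⟨z₁, hz₁, ho₁, hc₁⟩ := exists_center_of_closed h.cl₁ h1
    obtain ⟨z₂, hz₂, ho₂, hc₂⟩ := exists_center_of_closed h.cl₂ h2
    exact Base.false_of_simple
      (⟨c, hsp, hz₁, ho₁, hc₁, hz₂, ho₂, hc₂⟩ : Base I₁ I₂ S S₁ S₂ z₁ z₂)
  · intro C hC x hx y hy hxC hyC
    let T : Sylow 2 C := default
    obtain ⟨P, P₁, P₂, hTP, hP⟩ := hes _ (T.2.map C.subtype)
    have hinto : ∀ {v : G}, orderOf v = 2 → v ∈ C → ∃ u ∈ C, u * v * u⁻¹ ∈ (T : Subgroup C).map C.subtype := by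
      intro v hv2 hvC
      obtain ⟨u, hu⟩ := CfsgLib.Techniques.exists_conj_mem_sylow T (H := zpowers (⟨v, hvC⟩ : C))
        (IsPGroup.of_card (n := 1) (by rw [Nat.card_zpowers, ← Subgroup.orderOf_coe, hv2, pow_one]))
      exact ⟨u, u.2, _, hu _ (mem_zpowers _), rfl⟩
    obtain ⟨u, hu, hux⟩ := hinto hx.1 hxC
    obtain ⟨v, hv, hvy⟩ := hinto hy.1 hyC
    have := (⟨hP.cl₁, hP.cl₂, hP.comm, hP.disj⟩ : ClosedPair P P₁ P₂).sub IH hC T hTP
      (k := v * u⁻¹) (hP.mem_left (involClass_conj hx u) (hTP hux)) hux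
      (hP.mem_right (involClass_conj hy v) (hTP hvy)) hvy (mul_mem hv (inv_mem hu))
    obtain ⟨w, hw, hwe⟩ := this
    refine ⟨⟨v, hv⟩⁻¹ * w * ⟨v, hv⟩⁻¹⁻¹, (inferInstance : (oddCore C).Normal).conj_mem _ hw _, ?_⟩
    show v⁻¹ * (w : G) * v⁻¹⁻¹ = _
    rw [show (w : G) = _ from hwe, commutatorElement_def, commutatorElement_def]
    group

/-- The statement with a trivial core. -/
theorem ClosedPair.conclusion (h : ClosedPair S S₁ S₂) (IH : Below.{u} (Nat.card G))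
    (hO : oddCore G = ⊥) : Conclusion S₁ S₂ := by
  haveI : Fact (Nat.Prime 2) := ⟨Nat.prime_two⟩
  by_cases h1 : S₁ = ⊥
  · intro a ha b _ g
    rw [h1, mem_bot] at ha
    subst ha
    rw [mul_one, mul_inv_cancel]
    exact Commute.one_left b
  by_cases h2 : S₂ = ⊥
  · intro a _ b hb g
    rw [h2, mem_bot] at hb
    subst hb
    exact Commute.one_right _
  by_cases hc : ∃ c ∈ center G, orderOf c = 2
  · obtain ⟨c, hc, hc2⟩ := hc
    exact h.of_center IH hO hc hc2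
  have hcen : ∀ c ∈ center G, c = 1 := by
    have hodd : Odd (Nat.card (center G)) := Nat.not_even_iff_odd.1 fun he => by
      obtain ⟨⟨c, hc'⟩, hc2⟩ := exists_prime_orderOf_dvd_card' 2 (even_iff_two_dvd.1 he)
      exact hc ⟨c, hc', by rwa [orderOf_mk] at hc2⟩
    intro c hcc
    have := CfsgLib.ZStar.le_oddCore (inferInstance : (center G).Normal) hodd hcc
    rwa [hO, mem_bot] at this
  by_cases hN₂ : normalClosure (S₂ : Set G) = ⊤
  swap
  · exact h.of_normalClosure IH hO hcen h1 hN₂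
  by_cases hN₁ : normalClosure (S₁ : Set G) = ⊤
  swap
  · exact Conclusion.swap (h.swap.of_normalClosure IH hO hcen h2 hN₁)
  exfalso
  by_cases hs : ∀ K : Subgroup G, K.Normal → K = ⊥ ∨ K = ⊤
  · haveI : Nontrivial G := ⟨⟨(exists_center_of_closed h.cl₁ h1).choose, 1,
      involution_ne_one (exists_center_of_closed h.cl₁ h1).choose_spec.2.1⟩⟩
    haveI : IsSimpleGroup G := ⟨fun K hK => hs K hK⟩
    exact h.false_of_simple IH hO hcen h1 h2
  push Not at hs
  obtain ⟨K, hK, hKb, hKt⟩ := hs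
  haveI := hK
  by_cases hK1 : S₁ ⊓ K = ⊥
  swap
  · exact h.false_of_normal IH hO hcen h2 hN₂ K hKt hK1
  by_cases hK2 : S₂ ⊓ K = ⊥
  swap
  · exact h.swap.false_of_normal IH hO hcen h1 hN₁ K hKt hK2
  obtain ⟨z, hz, hz2, hzc⟩ := exists_center_of_closed h.cl₁ h1
  by_cases htop : K ⊔ (S : Subgroup G) = ⊤
  · exact involution_ne_one hz2 (hcen z (mem_center_of_isolated hO hz2 (h.cl₁.1 hz)
      (isolated_of_sup h K htop hK1 hz hzc)))
  -- `z` centralises `K`
  have hle : (S : Subgroup G) ≤ K ⊔ (S : Subgroup G) := le_sup_right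
  have hzcen : (⟨z, hle (h.cl₁.1 hz)⟩ : ↥(K ⊔ (S : Subgroup G))) ∈ center _ := by
    refine central_of_isolated (oddCore_sup_bot hO K) (S.subtype hle) (by rw [orderOf_mk]; exact hz2)
      (mem_subgroupOf.2 (h.cl₁.1 hz)) ?_
    intro g hg
    have hg' := g.2
    rw [mem_sup_of_normal_left] at hg'
    obtain ⟨k, hk, s, hs, e⟩ := hg'
    refine Subtype.ext ?_
    show (g : G) * z * (g : G)⁻¹ = z
    have hgz : (g : G) * z * (g : G)⁻¹ = k * z * k⁻¹ := by
      rw [← e, show k * s * z * (k * s)⁻¹ = k * (s * z * s⁻¹) * k⁻¹ by group, (hzc s hs).eq,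
        mul_inv_cancel_right]
    have hS : (g : G) * z * (g : G)⁻¹ ∈ (S : Subgroup G) := mem_subgroupOf.1 hg
    rw [hgz] at hS ⊢
    have hmem : k * z * k⁻¹ * z⁻¹ ∈ S₁ ⊓ K := ⟨S₁.mul_mem (h.cl₁.2 z hz k hS) (S₁.inv_mem hz), by
      rw [mul_assoc k z k⁻¹, mul_assoc]; exact mul_mem hk (hK.conj_mem _ (inv_mem hk) z)⟩
    rw [hK1, mem_bot] at hmem
    exact mul_inv_eq_one.1 hmem
  set C := centralizer (K : Set G) with hC
  haveI : C.Normal := Subgroup.normal_centralizer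
  refine h.false_of_normal IH hO hcen h2 hN₂ C ?_ ?_
  · intro e
    exact hKb ((eq_bot_iff_forall _).2 fun v hv => hcen v (mem_center_iff.2 fun g =>
      (mem_centralizer_iff.1 (e ▸ mem_top g : g ∈ C) v hv).symm))
  · intro e
    have : z ∈ S₁ ⊓ C := ⟨hz, mem_centralizer_iff.2 fun v hv =>
      congrArg Subtype.val (mem_center_iff.1 hzcen ⟨v, mem_sup_left hv⟩)⟩
    rw [e, mem_bot] at this
    exact involution_ne_one hz2 this

omit [Finite G] in
theorem below_all (n : ℕ) : Below.{u} n := by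
  induction n using Nat.strong_induction_on with
  | _ n ih =>
    intro H _ _ hlt S S₁ S₂ h a ha b hb g
    haveI : Fact (Nat.Prime 2) := ⟨Nat.prime_two⟩
    have IH : Below.{u} (Nat.card H) := ih _ hlt
    by_cases hO : oddCore H = ⊥
    · rw [hO, mem_bot]
      exact commutatorElement_eq_one_iff_commute.2 (h.conclusion IH hO a ha b hb g)
    set π := QuotientGroup.mk' (oddCore H) with hπ
    have hπs : Function.Surjective π := QuotientGroup.mk'_surjective _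
    have hodd := CfsgLib.ZStar.odd_card_oddCore H
    have hlt' : Nat.card (H ⧸ oddCore H) < Nat.card H := by
      rw [card_eq_card_quotient_mul_card_subgroup (oddCore H)]
      exact lt_mul_of_one_lt_right Nat.card_pos (one_lt_card_iff_ne_bot _ |>.2 hO)
    have hcop : (Nat.card π.ker).Coprime 2 := by
      rw [hπ, QuotientGroup.ker_mk']; exact Nat.coprime_two_right.2 hodd
    have hinj : ∀ v ∈ (S : Subgroup H), π v = 1 → v = 1 := fun v hv h1 => by
      have : v ∈ (S : Subgroup H) ⊓ oddCore H := ⟨hv, (QuotientGroup.eq_one_iff v).1 h1⟩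
      rwa [inf_eq_bot_of_coprime (coprime_two_group S.2 hodd), mem_bot] at this
    have hp : ClosedPair (S.mapSurjective hπs) (S₁.map π) (S₂.map π) := by
      refine ⟨?_, ?_, ?_, (eq_bot_iff_forall _).2 ?_⟩
      · rw [Sylow.coe_mapSurjective]
        exact CfsgLib.LocalEvenB.map_isStronglyClosed π hπs hcop S h.cl₁
      · rw [Sylow.coe_mapSurjective]
        exact CfsgLib.LocalEvenB.map_isStronglyClosed π hπs hcop S h.cl₂
      · rintro _ ⟨x, hx, rfl⟩ _ ⟨y, hy, rfl⟩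
        rw [← map_mul, h.comm x hx y hy, map_mul]
      · rintro _ ⟨⟨x, hx, rfl⟩, y, hy, hyx⟩
        have hxy : x⁻¹ * y = 1 := hinj _ (mul_mem (inv_mem (h.cl₁.1 hx)) (h.cl₂.1 hy))
          (by rw [map_mul, map_inv, hyx, inv_mul_cancel])
        have : x ∈ S₁ ⊓ S₂ := ⟨hx, (inv_mul_eq_one.1 hxy) ▸ hy⟩
        rw [h.disj, mem_bot] at this
        rw [this, map_one]
    have hmod := IH _ hlt' _ _ _ hp _ (mem_map_of_mem π ha) _ (mem_map_of_mem π hb) (π g)
    rw [show oddCore (H ⧸ oddCore H) = ⊥ from CfsgLib.Core.pPrimeCore_quotient_pPrimeCore 2 H, mem_bot,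
      ← map_inv, ← map_mul, ← map_mul, ← map_commutatorElement] at hmod
    exact (QuotientGroup.eq_one_iff _).1 hmod

/-- Conjugates of elements of two strongly closed subgroups which commute elementwise and meet trivially
commute modulo the odd core. -/
theorem commutator_mem_oddCore (h₁ : IsStronglyClosed S₁ (S : Subgroup G))
    (h₂ : IsStronglyClosed S₂ (S : Subgroup G)) (hc : ∀ a ∈ S₁, ∀ b ∈ S₂, a * b = b * a)
    (hd : S₁ ⊓ S₂ = ⊥) {a b : G} (ha : a ∈ S₁) (hb : b ∈ S₂) (g : G) :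
    ⁅g * a * g⁻¹, b⁆ ∈ oddCore G :=
  below_all (Nat.card G + 1) G (Nat.lt_succ_self _) S S₁ S₂ ⟨h₁, h₂, hc, hd⟩ a ha b hb g

/-- Modulo the odd core the normal closures commute. -/
theorem normalClosure_commutator_le (h₁ : IsStronglyClosed S₁ (S : Subgroup G))
    (h₂ : IsStronglyClosed S₂ (S : Subgroup G)) (hc : ∀ a ∈ S₁, ∀ b ∈ S₂, a * b = b * a)
    (hd : S₁ ⊓ S₂ = ⊥) :
    ⁅normalClosure (S₁ : Set G), normalClosure (S₂ : Set G)⁆ ≤ oddCore G := by
  set π := QuotientGroup.mk' (oddCore G) with hπ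
  suffices h : ∀ v ∈ normalClosure (S₁ : Set G), ∀ w ∈ normalClosure (S₂ : Set G), Commute (π v) (π w) by
    refine commutator_le.2 fun v hv w hw => (QuotientGroup.eq_one_iff _).1 ?_
    show π ⁅v, w⁆ = 1
    rw [map_commutatorElement]
    exact commutatorElement_eq_one_iff_commute.2 (h v hv w hw)
  have key : ∀ a ∈ S₁, ∀ b ∈ S₂, ∀ g k : G, Commute (π (g * a * g⁻¹)) (π (k * b * k⁻¹)) := by
    intro a ha b hb g k
    refine commutatorElement_eq_one_iff_commute.1 ?_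
    rw [← map_commutatorElement]
    refine (QuotientGroup.eq_one_iff _).2 ?_
    have h := (inferInstance : (oddCore G).Normal).conj_mem _
      (commutator_mem_oddCore h₁ h₂ hc hd ha hb (k⁻¹ * g)) k
    rwa [commutatorElement_def, show k * (k⁻¹ * g * a * (k⁻¹ * g)⁻¹ * b * (k⁻¹ * g * a * (k⁻¹ * g)⁻¹)⁻¹ *
      b⁻¹) * k⁻¹ = g * a * g⁻¹ * (k * b * k⁻¹) * (g * a * g⁻¹)⁻¹ * (k * b * k⁻¹)⁻¹ by group,
      ← commutatorElement_def] at h
  intro v hv w hw
  have h1 : normalClosure (S₁ : Set G) ≤ (centralizer (π '' Group.conjugatesOfSet (S₂ : Set G))).comap π :=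
    (closure_le _).2 fun x hx => mem_centralizer_iff.2 (by
      rintro _ ⟨y, hy, rfl⟩
      obtain ⟨a, ha, hax⟩ := Group.mem_conjugatesOfSet_iff.1 hx
      obtain ⟨g, rfl⟩ := isConj_iff.1 hax
      obtain ⟨b, hb, hby⟩ := Group.mem_conjugatesOfSet_iff.1 hy
      obtain ⟨k, rfl⟩ := isConj_iff.1 hby
      exact (key a ha b hb g k).eq.symm)
  have h2 : normalClosure (S₂ : Set G) ≤ (centralizer ({π v} : Set _)).comap π :=
    (closure_le _).2 fun y hy => mem_centralizer_singleton_iff.2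
      (mem_centralizer_iff.1 (h1 hv) (π y) ⟨y, hy, rfl⟩)
  exact (mem_centralizer_singleton_iff.1 (h2 hw) : π w * π v = π v * π w).symm

end CfsgLib.TwoFusion.ProductFusion
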