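import Cfsg.Agent.Lib.TwoFusion.DihedralProduct.Pairs
import Cfsg.Agent.Lib.PGroups.Basic

/-!
Owner: helper14. Two classes of involutions coming from commuting strongly closed subgroups with
trivial intersection, in a coreless group without centre all of whose proper subgroups satisfy the
commutation theorem modulo their cores.
-/

set_option autoImplicit false

namespace CfsgLib.TwoFusion.ProductFusion

open Subgroup Cfsg
open CfsgLib.Signalizer (involution_sq involution_inv involution_ne_one orderOf_eq_two_of orderOf_conj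
  mul_pair_zpow mem_closure_pair_iff)
open CfsgLib.FTDep (coreCent coreCent_le coreCent_norm coreCent_odd)
open CfsgLib.TwoFusion.DihedralProduct (isPGroup_closure isPGroup_pair isPGroup_closure_two commute_of_sq
  mem_closure_pair_cases isElementaryAbelian_pair)
open scoped commutatorElement

universe u

variable {G : Type u} [Group G]

/-- Two involutions commuting modulo a subgroup of odd order commute after conjugation by it. -/
theorem exists_conj_commute_of_mod {O : Subgroup G} (hO : Odd (Nat.card O)) {x y : G}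
    (hx : orderOf x = 2) (hy : orderOf y = 2) (h : ⁅x, y⁆ ∈ O) :
    ∃ o ∈ O, Commute (o * x * o⁻¹) y := by
  set r := x * y with hr
  have e2 : r * r = ⁅x, y⁆ := by
    rw [commutatorElement_def, involution_inv hx, involution_inv hy, hr]; group
  have hm : Odd (orderOf (r * r)) := by
    rw [e2]; exact hO.of_dvd_nat (Subgroup.orderOf_dvd_natCard _ h)
  obtain ⟨j, hj⟩ := hm
  obtain ⟨i, hi⟩ := (Nat.even_mul_succ_self j).two_dvd
  refine ⟨r ^ (4 * i), ?_, commute_of_sq ?_ (involution_sq hy) ?_⟩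
  · rw [show 4 * i = 2 * (2 * i) by ring, pow_mul, pow_two, e2]
    exact pow_mem h _
  · exact involution_sq (by rw [orderOf_conj]; exact hx)
  · have h1 : r ^ (4 * i) * x * (r ^ (4 * i))⁻¹ * y = r ^ (8 * i + 1) := by
      have h2 : x * (r ^ (4 * i))⁻¹ = r ^ (4 * i) * x := by
        rw [← zpow_natCast, ← zpow_neg, hr, mul_pair_zpow hx hy, neg_neg]
      rw [mul_assoc (r ^ (4 * i)) x, h2, ← mul_assoc, ← pow_add, mul_assoc, ← hr, ← pow_succ]
      congr 1; ring
    rw [h1, ← pow_add, show 8 * i + 1 + (8 * i + 1) = 2 * (orderOf (r * r) * orderOf (r * r)) by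
      rw [hj]; nlinarith, pow_mul, pow_two, pow_mul, pow_orderOf_eq_one, one_pow]

/-- A subgroup of odd order normalised by a normal subgroup of a coreless group meets it trivially. -/
theorem inf_eq_bot_of_le_normalizer {Q : Type*} [Group Q] [Finite Q] (hO : oddCore Q = ⊥)
    (N D : Subgroup Q) [N.Normal] (hD : Odd (Nat.card D)) (hND : N ≤ normalizer (D : Set Q)) :
    N ⊓ D = ⊥ := by
  haveI : ((N ⊓ D).subgroupOf N).Normal := (normal_subgroupOf_iff_le_normalizer inf_le_left).2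
    ((le_inf le_normalizer hND).trans inf_normalizer_le_normalizer_inf)
  have h1 : (N ⊓ D).subgroupOf N ≤ oddCore N := CfsgLib.ZStar.le_oddCore inferInstance (by
    rw [Nat.card_congr (subgroupOfEquivOfLe inf_le_left).toEquiv]
    exact hD.of_dvd_nat (card_dvd_of_le inf_le_right))
  rw [eq_bot_iff, ← hO]
  intro v hv
  exact CfsgLib.Core.map_subtype_pPrimeCore_le (p := 2) N ⟨⟨v, hv.1⟩, h1 (mem_subgroupOf.2 hv), rfl⟩

/-- A Sylow 2-subgroup with the two strongly closed subgroups cut out by the classes. -/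
structure Split (I₁ I₂ : Set G) (P : Sylow 2 G) (P₁ P₂ : Subgroup G) : Prop where
  cl₁ : IsStronglyClosed P₁ (P : Subgroup G)
  cl₂ : IsStronglyClosed P₂ (P : Subgroup G)
  comm : ∀ a ∈ P₁, ∀ b ∈ P₂, a * b = b * a
  disj : P₁ ⊓ P₂ = ⊥
  mem₁ : ∀ x ∈ (P : Subgroup G), (x ∈ I₁ ↔ orderOf x = 2 ∧ x ∈ P₁)
  mem₂ : ∀ x ∈ (P : Subgroup G), (x ∈ I₂ ↔ orderOf x = 2 ∧ x ∈ P₂)

namespace Split

variable {I₁ I₂ : Set G} {P : Sylow 2 G} {P₁ P₂ : Subgroup G} (h : Split I₁ I₂ P P₁ P₂)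

include h

theorem swap : Split I₂ I₁ P P₂ P₁ :=
  ⟨h.cl₂, h.cl₁, fun a ha b hb => (h.comm b hb a ha).symm, by rw [inf_comm]; exact h.disj, h.mem₂,
    h.mem₁⟩

theorem le₁ : P₁ ≤ (P : Subgroup G) := h.cl₁.1

theorem le₂ : P₂ ≤ (P : Subgroup G) := h.cl₂.1

theorem commute {a b : G} (ha : a ∈ P₁) (hb : b ∈ P₂) : Commute a b := h.comm a ha b hb

theorem eq_one {a : G} (h1 : a ∈ P₁) (h2 : a ∈ P₂) : a = 1 := by
  have : a ∈ P₁ ⊓ P₂ := ⟨h1, h2⟩
  rwa [h.disj, mem_bot] at this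

theorem mem_class {a : G} (ha : a ∈ P₁) (h2 : orderOf a = 2) : a ∈ I₁ :=
  (h.mem₁ a (h.le₁ ha)).2 ⟨h2, ha⟩

theorem mem_left {a : G} (ha : a ∈ I₁) (haP : a ∈ (P : Subgroup G)) : a ∈ P₁ :=
  ((h.mem₁ a haP).1 ha).2

theorem mem_right {a : G} (ha : a ∈ I₂) (haP : a ∈ (P : Subgroup G)) : a ∈ P₂ :=
  ((h.mem₂ a haP).1 ha).2

/-- The first factor holds an involution central in the Sylow subgroup, unless it is trivial. -/
theorem exists_center [Finite G] (hne : P₁ ≠ ⊥) :
    ∃ z ∈ P₁, orderOf z = 2 ∧ ∀ s ∈ (P : Subgroup G), Commute s z := by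
  haveI : Fact (Nat.Prime 2) := ⟨Nat.prime_two⟩
  haveI hn : (P₁.subgroupOf (P : Subgroup G)).Normal := ⟨fun a ha s => by
    refine mem_subgroupOf.2 (h.cl₁.2 _ (mem_subgroupOf.1 ha) s ?_)
    exact mul_mem (mul_mem s.2 a.2) (inv_mem s.2)⟩
  have hne' : P₁.subgroupOf (P : Subgroup G) ≠ ⊥ := fun e => hne (by
    rw [← map_subgroupOf_eq_of_le h.le₁, e, Subgroup.map_bot])
  obtain ⟨⟨t, ht1, htc⟩, ht⟩ : ∃ t : ↥(P₁.subgroupOf (P : Subgroup G) ⊓ center (P : Subgroup G)),
      orderOf t = 2 := by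
    have hP : IsPGroup 2 ↥(P₁.subgroupOf (P : Subgroup G) ⊓ center (P : Subgroup G)) := P.2.to_subgroup _
    haveI : Nontrivial ↥(P₁.subgroupOf (P : Subgroup G) ⊓ center (P : Subgroup G)) :=
      (nontrivial_iff_ne_bot _).2 (CfsgLib.PGroups.inf_center_ne_bot P.2 hne')
    exact exists_prime_orderOf_dvd_card' 2 (by
      obtain ⟨n, hn⟩ := IsPGroup.iff_card.1 hP
      rw [hn]
      refine dvd_pow_self 2 fun h0 => ?_
      rw [h0, pow_zero] at hn
      exact (Finite.one_lt_card (α := ↥(P₁.subgroupOf (P : Subgroup G) ⊓ center (P : Subgroup G)))).ne'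
        hn)
  refine ⟨t, mem_subgroupOf.1 ht1, ?_, fun s hs => ?_⟩
  · rw [Subgroup.orderOf_coe]
    exact (Subgroup.orderOf_coe _).trans ht
  · exact congrArg Subtype.val (mem_center_iff.1 htc ⟨s, hs⟩)

end Split

/-- The standing data of a minimal counterexample. -/
structure Ctx (I₁ I₂ : Set G) : Prop where
  inv₁ : ∀ x ∈ I₁, orderOf x = 2
  inv₂ : ∀ x ∈ I₂, orderOf x = 2
  conj₁ : ∀ x ∈ I₁, ∀ g : G, g * x * g⁻¹ ∈ I₁
  conj₂ : ∀ x ∈ I₂, ∀ g : G, g * x * g⁻¹ ∈ I₂
  exists_split : ∀ Q : Subgroup G, IsPGroup 2 Q →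
    ∃ P : Sylow 2 G, ∃ P₁ P₂ : Subgroup G, Q ≤ (P : Subgroup G) ∧ Split I₁ I₂ P P₁ P₂
  below : ∀ C : Subgroup G, C ≠ ⊤ → ∀ x ∈ I₁, ∀ y ∈ I₂, x ∈ C → y ∈ C →
    ⁅x, y⁆ ∈ (oddCore C).map C.subtype
  no_center : ∀ a : G, a ∈ center G → a = 1
  core : oddCore G = ⊥

namespace Ctx

variable {I₁ I₂ : Set G} (c : Ctx I₁ I₂)

include c

theorem swap : Ctx I₂ I₁ :=
  ⟨c.inv₂, c.inv₁, c.conj₂, c.conj₁, fun Q hQ => by
      obtain ⟨P, P₁, P₂, hQP, h⟩ := c.exists_split Q hQ
      exact ⟨P, P₂, P₁, hQP, h.swap⟩,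
    fun C hC y hy x hx hyC hxC => by
      rw [← commutatorElement_inv x y]
      exact inv_mem (c.below C hC x hx y hy hxC hyC),
    c.no_center, c.core⟩

theorem sq₁ {x : G} (hx : x ∈ I₁) : x * x = 1 := involution_sq (c.inv₁ x hx)

theorem sq₂ {y : G} (hy : y ∈ I₂) : y * y = 1 := involution_sq (c.inv₂ y hy)

theorem ne_one₁ {x : G} (hx : x ∈ I₁) : x ≠ 1 := involution_ne_one (c.inv₁ x hx)

theorem ne_one₂ {y : G} (hy : y ∈ I₂) : y ≠ 1 := involution_ne_one (c.inv₂ y hy)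

theorem cen_ne_top {a : G} (ha : a ≠ 1) : centralizer ({a} : Set G) ≠ ⊤ := fun h =>
  ha (c.no_center a (mem_center_iff.2 fun g => mem_centralizer_singleton_iff.1 (h ▸ mem_top g)))

/-- Elements of the two classes in `C(a)` commute modulo `O(C(a))`. -/
theorem below_cen {a : G} (ha : a ≠ 1) {x y : G} (hx : x ∈ I₁) (hy : y ∈ I₂) (hxa : Commute x a)
    (hya : Commute y a) : ⁅x, y⁆ ∈ coreCent ({a} : Set G) :=
  c.below _ (c.cen_ne_top ha) x hx y hy (mem_centralizer_singleton_iff.2 hxa.eq)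
    (mem_centralizer_singleton_iff.2 hya.eq)

theorem split_at {x : G} (hx : x * x = 1) :
    ∃ P : Sylow 2 G, ∃ P₁ P₂ : Subgroup G, x ∈ (P : Subgroup G) ∧ Split I₁ I₂ P P₁ P₂ := by
  obtain ⟨P, P₁, P₂, hQ, h⟩ := c.exists_split _ (isPGroup_pair hx hx (Commute.refl x))
  exact ⟨P, P₁, P₂, hQ (subset_closure (Or.inl rfl)), h⟩

theorem split_at_pair {x y : G} (hx : x * x = 1) (hy : y * y = 1) (hxy : Commute x y) :
    ∃ P : Sylow 2 G, ∃ P₁ P₂ : Subgroup G, x ∈ (P : Subgroup G) ∧ y ∈ (P : Subgroup G) ∧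
      Split I₁ I₂ P P₁ P₂ := by
  obtain ⟨P, P₁, P₂, hQ, h⟩ := c.exists_split _ (isPGroup_pair hx hy hxy)
  exact ⟨P, P₁, P₂, hQ (subset_closure (Or.inl rfl)), hQ (subset_closure (Or.inr rfl)), h⟩

theorem not_mem {x : G} (hx : x ∈ I₁) : x ∉ I₂ := fun hx' => by
  obtain ⟨P, P₁, P₂, hP, h⟩ := c.split_at (c.sq₁ hx)
  exact c.ne_one₁ hx (h.eq_one (h.mem_left hx hP) (h.mem_right hx' hP))

theorem commute_of_pGroup {Q : Subgroup G} (hQ : IsPGroup 2 Q) {x y : G} (hx : x ∈ I₁)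
    (hy : y ∈ I₂) (hxQ : x ∈ Q) (hyQ : y ∈ Q) : Commute x y := by
  obtain ⟨P, P₁, P₂, hP, h⟩ := c.exists_split Q hQ
  exact h.commute (h.mem_left hx (hP hxQ)) (h.mem_right hy (hP hyQ))

theorem mul_mem₁ {x x' : G} (hx : x ∈ I₁) (hx' : x' ∈ I₁) (hne : x ≠ x') (hc : Commute x x') :
    x * x' ∈ I₁ := by
  obtain ⟨P, P₁, P₂, hP, hP', h⟩ := c.split_at_pair (c.sq₁ hx) (c.sq₁ hx') hc
  refine h.mem_class (mul_mem (h.mem_left hx hP) (h.mem_left hx' hP'))
    (orderOf_eq_two_of (fun e => hne ?_) ?_)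
  · rw [mul_eq_one_iff_eq_inv.1 e, involution_inv (c.inv₁ x' hx')]
  · rw [mul_assoc, ← mul_assoc x' x x', ← hc.eq, mul_assoc x x' x', c.sq₁ hx', mul_one, c.sq₁ hx]

theorem mul_sq {x y : G} (hx : x ∈ I₁) (hy : y ∈ I₂) (hc : Commute x y) :
    orderOf (x * y) = 2 := by
  refine orderOf_eq_two_of (fun e => c.not_mem hx ?_) ?_
  · rwa [mul_eq_one_iff_eq_inv.1 e, involution_inv (c.inv₂ y hy)]
  · rw [mul_assoc, ← mul_assoc y x y, ← hc.eq, mul_assoc x y y, c.sq₂ hy, mul_one, c.sq₁ hx]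

variable [Finite G]

theorem mem_four {x x' : G} (hx : x ∈ I₁) (hx' : x' ∈ I₁) (hne : x ≠ x')
    (hc : Commute x x') {a : G} (ha : a ∈ closure ({x, x'} : Set G)) (ha1 : a ≠ 1) : a ∈ I₁ := by
  rcases mem_closure_pair_cases (c.sq₁ hx) (c.sq₁ hx') hc ha with h | h | h | h
  · exact absurd h ha1
  · exact h ▸ hx
  · exact h ▸ hx'
  · exact h ▸ c.mul_mem₁ hx hx' hne hc

theorem exists_partner {x : G} (hx : x ∈ I₁) : ∃ x' ∈ I₁, x' ≠ x ∧ Commute x x' := by
  obtain ⟨P, P₁, P₂, hP, h⟩ := c.split_at (c.sq₁ hx)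
  have hxP := h.mem_left hx hP
  obtain ⟨z, hz, hz2, hzc⟩ := h.exists_center (fun e => c.ne_one₁ hx (by
    rw [e, mem_bot] at hxP; exact hxP))
  by_cases hxz : z = x
  · subst hxz
    by_contra hno
    push Not at hno
    have hiso : ∀ g : G, g * z * g⁻¹ ∈ (P : Subgroup G) → g * z * g⁻¹ = z := by
      intro g hg
      by_contra hne
      exact hno _ (c.conj₁ z hx g) hne ((hzc _ hg).symm)
    exact involution_ne_one hz2
      (c.no_center z (DihedralProduct.central_of_isolated c.core P hz2 hP hiso))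
  · exact ⟨z, h.mem_class hz hz2, hxz, hzc x hP⟩

/-- A pair is isolated in the centraliser of its product, modulo the core. -/
theorem cen_mixed {x y : G} (hx : x ∈ I₁) (hy : y ∈ I₂) (hxy : Commute x y) {g : G}
    (hg : Commute g (x * y)) :
    ∃ u ∈ coreCent ({x * y} : Set G), Commute (u * g) x ∧ Commute (u * g) y := by
  set w := x * y with hw
  have hw2 : orderOf w = 2 := c.mul_sq hx hy hxy
  have hw1 : w ≠ 1 := involution_ne_one hw2
  set x' := g * x * g⁻¹ with hx'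
  set y' := g * y * g⁻¹ with hy'
  have hx'I := c.conj₁ x hx g
  have hy'I := c.conj₂ y hy g
  have hxw : Commute x w := (Commute.refl x).mul_right hxy
  have hyw : Commute y w := hxy.symm.mul_right (Commute.refl y)
  have hwc : g * w * g⁻¹ = w := by rw [hg.eq, mul_inv_cancel_right]
  have hconj : ∀ v : G, Commute v w → Commute (g * v * g⁻¹) w := fun v hv => by
    have h1 := hv.map (MulAut.conj g).toMonoidHom
    simp only [MulEquiv.coe_toMonoidHom, MulAut.conj_apply] at h1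
    rwa [hwc] at h1
  have hx'w : Commute x' w := hconj x hxw
  have hy'w : Commute y' w := hconj y hyw
  have hsum : x' * y' = w := by
    calc x' * y' = g * (x * y) * g⁻¹ := by rw [hx', hy']; group
      _ = w := hwc
  set C := centralizer ({w} : Set G) with hC
  have hmem : ∀ {v : G}, Commute v w → v ∈ C := fun hv => mem_centralizer_singleton_iff.2 hv.eq
  have split : ∀ {a b : G}, a * a = 1 → a * b = w → a * x = b * y := by
    intro a b ha hab
    have hxy' : x = w * y := by rw [hw, mul_assoc, c.sq₂ hy, mul_one]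
    rw [hxy', ← mul_assoc, ← hab, ← mul_assoc a a b, ha, one_mul]
  -- `x'` commutes with `x` modulo the core
  have h1 : ⁅x', x⁆ ∈ coreCent ({w} : Set G) := by
    set π := QuotientGroup.mk' (oddCore C)
    have hπ : ∀ {a b : G} (ha : Commute a w) (hb : Commute b w), ⁅a, b⁆ ∈ coreCent ({w} : Set G) →
        Commute (π ⟨a, hmem ha⟩) (π ⟨b, hmem hb⟩) := by
      intro a b ha hb hab
      obtain ⟨v, hv, hve⟩ := hab
      refine commutatorElement_eq_one_iff_commute.1 ?_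
      rw [← map_commutatorElement]
      exact (QuotientGroup.eq_one_iff _).2
        ((congrArg (· ∈ oddCore C) (Subtype.ext hve : v = ⁅(⟨a, hmem ha⟩ : C), ⟨b, hmem hb⟩⁆)).mp hv)
    have hk : Commute (π ⟨x', hmem hx'w⟩) (π ⟨x, hmem hxw⟩) := by
      have a1 := hπ hxw hy'w (c.below_cen hw1 hx hy'I hxw hy'w)
      have a2 := hπ hxw hyw (c.below_cen hw1 hx hy hxw hyw)
      have a3 := (a1.mul_right a2).mul_right (Commute.refl (π ⟨x, hmem hxw⟩)).inv_right
      have e : (⟨x', hmem hx'w⟩ : C) = ⟨y', hmem hy'w⟩ * ⟨y, hmem hyw⟩ * ⟨x, hmem hxw⟩⁻¹ :=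
        Subtype.ext (by
          show x' = y' * y * x⁻¹
          rw [← split (c.sq₁ hx'I) hsum, mul_inv_cancel_right])
      rw [e, map_mul, map_mul, map_inv]
      exact a3.symm
    have h2 : π ⁅(⟨x', hmem hx'w⟩ : C), ⟨x, hmem hxw⟩⁆ = 1 := by
      rw [map_commutatorElement]; exact commutatorElement_eq_one_iff_commute.2 hk
    exact ⟨_, (QuotientGroup.eq_one_iff _).1 h2, rfl⟩
  obtain ⟨o, ho, hox⟩ := exists_conj_commute_of_mod (coreCent_odd _) (c.inv₁ x' hx'I) (c.inv₁ x hx) h1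
  have how : Commute o w := mem_centralizer_singleton_iff.1 (coreCent_le _ ho)
  set x'' := o * x' * o⁻¹ with hx''
  set y'' := o * y' * o⁻¹ with hy''
  have hx''I := c.conj₁ x' hx'I o
  have hy''I := c.conj₂ y' hy'I o
  have hsum' : x'' * y'' = w := by
    calc x'' * y'' = o * (x' * y') * o⁻¹ := by rw [hx'', hy'']; group
      _ = w := by rw [hsum, how.eq, mul_inv_cancel_right]
  have hy''x : Commute y'' x := by
    have h : y'' = x''⁻¹ * w := by rw [← hsum', inv_mul_cancel_left]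
    rw [h]
    exact hox.inv_left.mul_left hxw.symm
  have hy''w : Commute y'' w := by
    have h : y'' = o * y' * o⁻¹ := hy''
    rw [h]
    exact (how.mul_left hy'w).mul_left how.inv_left
  have hy''y : Commute y'' y := by
    have h : y = x⁻¹ * w := by rw [hw, inv_mul_cancel_left]
    rw [h]
    exact hy''x.inv_right.mul_right hy''w
  have hxx : x'' = x := by
    by_contra hne
    have hne' : y'' ≠ y := fun h => hne (by
      have := hsum'
      rw [h, hw] at this
      exact mul_right_cancel this)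
    have := c.mul_mem₁ hx''I hx hne hox
    rw [split (c.sq₁ hx''I) hsum'] at this
    exact c.not_mem this (c.swap.mul_mem₁ hy''I hy hne' hy''y)
  have hog : Commute (o * g) x := by
    show o * g * x = x * (o * g)
    conv_rhs => rw [← hxx]
    rw [hx'', hx']; group
  refine ⟨o, ho, hog, ?_⟩
  have := hog.inv_right.mul_right (how.mul_left hg)
  rwa [hw, inv_mul_cancel_left] at this

end Ctx

end CfsgLib.TwoFusion.ProductFusion
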