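import Cfsg.Agent.Lib.TwoFusion.ProductFusion.Basic
import Cfsg.Agent.Lib.Components.Component
import Cfsg.Agent.Lib.OddLocal.Final.OddOrder

/-!
Owner: helper14. The subgroup of a commuting pair. The facts on centralisers come from the induction
hypothesis only: modulo `O(C(z))` the closures of the two classes in `C(z)` commute.
-/

set_option autoImplicit false

namespace CfsgLib.TwoFusion.ProductFusion

open Subgroup Cfsg
open CfsgLib.Signalizer (involution_sq involution_inv involution_ne_one orderOf_eq_two_of orderOf_conj)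
open CfsgLib.FTDep (coreCent coreCent_le coreCent_norm coreCent_odd mem_coreCent_of)
open CfsgLib.TwoFusion.DihedralProduct (isPGroup_closure isPGroup_pair mem_closure_pair_cases
  isElementaryAbelian_pair card_closure_pair centralizer_le_of_mem norm_coreCent coprime_two_group Pc Wc
  Wc_comm)
open scoped commutatorElement

universe u

variable {G : Type u} [Group G] [Finite G] {I₁ I₂ : Set G}

/-- The image in `C(a)/O(C(a))` of the closure of a class meeting `C(a)`. -/
def clsImage (I : Set G) (a : G) :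
    Subgroup (centralizer ({a} : Set G) ⧸ oddCore (centralizer ({a} : Set G))) :=
  closure (QuotientGroup.mk' _ '' {v : centralizer ({a} : Set G) | (v : G) ∈ I})

omit [Finite G] in
theorem clsImage_normal {I : Set G} (hI : ∀ x ∈ I, ∀ g : G, g * x * g⁻¹ ∈ I) (a : G) :
    (clsImage I a).Normal := ⟨fun v hv q => by
  have hle : (clsImage I a).map (MulAut.conj q).toMonoidHom ≤ clsImage I a := by
    rw [clsImage, MonoidHom.map_closure]
    refine closure_mono ?_
    rintro _ ⟨_, ⟨w, hw, rfl⟩, rfl⟩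
    obtain ⟨k, rfl⟩ := QuotientGroup.mk'_surjective _ q
    exact ⟨k * w * k⁻¹, hI _ hw k, by simp⟩
  exact hle (mem_map_of_mem _ hv)⟩

omit [Finite G] in
theorem mk_mem_clsImage {I : Set G} {a : G} {v : centralizer ({a} : Set G)} (hv : (v : G) ∈ I) :
    QuotientGroup.mk' (oddCore (centralizer ({a} : Set G))) v ∈ clsImage I a :=
  subset_closure ⟨v, hv, rfl⟩

omit [Finite G] in
theorem mk_commutator_eq_one {C : Subgroup G} {u v : C}
    (h : ⁅(u : G), (v : G)⁆ ∈ (oddCore C).map C.subtype) :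
    QuotientGroup.mk' (oddCore C) ⁅u, v⁆ = 1 := by
  obtain ⟨w, hw, hwe⟩ := h
  exact (QuotientGroup.eq_one_iff _).2
    ((congrArg (· ∈ oddCore C) (Subtype.ext hwe : w = ⁅u, v⁆)).mp hw)

omit [Finite G] in
theorem commutator_mem_of_mk {C : Subgroup G} {u v : C}
    (h : QuotientGroup.mk' (oddCore C) ⁅u, v⁆ = 1) :
    ⁅(u : G), (v : G)⁆ ∈ (oddCore C).map C.subtype :=
  ⟨⁅u, v⁆, (QuotientGroup.eq_one_iff _).1 h, rfl⟩

/-- The image of `O(C(b)) ∩ C(z)` in `C(z)/O(C(z))`. -/
def coreImage (z : G) (S : Set G) :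
    Subgroup (centralizer ({z} : Set G) ⧸ oddCore (centralizer ({z} : Set G))) :=
  ((coreCent S).subgroupOf (centralizer ({z} : Set G))).map (QuotientGroup.mk' _)

theorem coreImage_odd (z : G) (S : Set G) : Odd (Nat.card (coreImage z S)) :=
  (coreCent_odd S).of_dvd_nat ((card_map_dvd _ _).trans
    (card_comap_dvd_of_injective _ _ (centralizer ({z} : Set G)).subtype_injective))

theorem mk_mem_normalizer_coreImage {z : G} {S : Set G} {v : centralizer ({z} : Set G)}
    (hv : (v : G) ∈ centralizer S) :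
    QuotientGroup.mk' (oddCore (centralizer ({z} : Set G))) v ∈
      normalizer (coreImage z S : Set _) :=
  Subgroup.le_normalizer_map _ (mem_map_of_mem _
    (Subgroup.le_normalizer_comap _ (coreCent_norm S (by exact hv))))

namespace Ctx

variable (c : Ctx I₁ I₂)

include c

theorem clsImage_norm₁ (a : G) : (clsImage I₁ a).Normal := clsImage_normal c.conj₁ a

theorem oddCore_quot (C : Subgroup G) : oddCore (C ⧸ oddCore C) = ⊥ :=
  CfsgLib.Core.pPrimeCore_quotient_pPrimeCore 2 C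

/-- If `b` commutes with the first class modulo `O(C(z))`, the image of `O(C(b))` meets that of the
first class trivially. -/
theorem clsImage_inf {z b : G} (hb2 : orderOf b = 2)
    (hmod : ∀ v ∈ I₁, Commute v z → ⁅v, b⁆ ∈ coreCent ({z} : Set G)) :
    clsImage I₁ z ⊓ coreImage z {b} = ⊥ := by
  haveI := c.clsImage_norm₁ z
  refine inf_eq_bot_of_le_normalizer (c.oddCore_quot _) _ _ (coreImage_odd z _) ?_
  rw [clsImage, closure_le]
  rintro _ ⟨v, hv, rfl⟩
  have hvz : Commute (v : G) z := mem_centralizer_singleton_iff.1 v.2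
  obtain ⟨o, ho, hoc⟩ := exists_conj_commute_of_mod (coreCent_odd ({z} : Set G)) (c.inv₁ _ hv) hb2
    (hmod _ hv hvz)
  obtain ⟨o', ho', rfl⟩ := ho
  have e : QuotientGroup.mk' (oddCore (centralizer ({z} : Set G))) (o' * v * o'⁻¹) =
      QuotientGroup.mk' _ v := by
    rw [map_mul, map_mul, map_inv,
      show QuotientGroup.mk' (oddCore (centralizer ({z} : Set G))) o' = 1 from
        (QuotientGroup.eq_one_iff _).2 ho', one_mul, inv_one, mul_one]
  rw [← e]
  exact mk_mem_normalizer_coreImage (mem_centralizer_singleton_iff.2 hoc.eq)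

/-- Odd core elements of `C(b)` in `C(z)` commute with the first class modulo `O(C(z))`. -/
theorem core_comm {z b : G} (hb2 : orderOf b = 2)
    (hmod : ∀ v ∈ I₁, Commute v z → ⁅v, b⁆ ∈ coreCent ({z} : Set G))
    {x a : G} (hx : x ∈ coreCent ({b} : Set G)) (hxz : Commute x z) (ha : a ∈ I₁)
    (haz : Commute a z) (hab : Commute a b) : ⁅x, a⁆ ∈ coreCent ({z} : Set G) := by
  haveI := c.clsImage_norm₁ z
  set C := centralizer ({z} : Set G)
  let xC : C := ⟨x, mem_centralizer_singleton_iff.2 hxz.eq⟩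
  let aC : C := ⟨a, mem_centralizer_singleton_iff.2 haz.eq⟩
  refine commutator_mem_of_mk (u := xC) (v := aC) ?_
  rw [← mem_bot, ← c.clsImage_inf hb2 hmod, map_commutatorElement, mem_inf]
  have ha1 : QuotientGroup.mk' (oddCore C) aC ∈ clsImage I₁ z := mk_mem_clsImage ha
  have hx1 : QuotientGroup.mk' (oddCore C) xC ∈ coreImage z {b} :=
    mem_map_of_mem _ (mem_subgroupOf.2 hx)
  refine ⟨?_, ?_⟩
  · rw [commutatorElement_def]
    exact mul_mem ((inferInstance : (clsImage I₁ z).Normal).conj_mem _ ha1 _) (inv_mem ha1)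
  · rw [commutatorElement_def, mul_assoc (QuotientGroup.mk' (oddCore C) xC), mul_assoc]
    exact mul_mem hx1 ((mem_normalizer_iff.1
      (mk_mem_normalizer_coreImage (mem_centralizer_singleton_iff.2 hab.eq)) _).1 (inv_mem hx1))

/-- `O(C(b)) ∩ O(C(A)) ≤ O(C(z))` for a four-group `A` of the first class through `z`. -/
theorem core_inf_le {x x' : G} (hx : x ∈ I₁) (hx' : x' ∈ I₁) (hne : x ≠ x') (hc : Commute x x')
    {z b : G} (hz : z ∈ closure ({x, x'} : Set G)) (hb2 : orderOf b = 2)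
    (hmod : ∀ v ∈ I₁, Commute v z → ⁅v, b⁆ ∈ coreCent ({z} : Set G)) :
    coreCent ({b} : Set G) ⊓ coreCent ((closure ({x, x'} : Set G) : Subgroup G) : Set G) ≤
      coreCent ({z} : Set G) := by
  haveI := c.clsImage_norm₁ z
  set A := closure ({x, x'} : Set G) with hA
  have hAel := isElementaryAbelian_pair (c.sq₁ hx) (c.sq₁ hx') hc
  have hAz : ∀ a ∈ A, Commute a z := fun a ha =>
    congrArg Subtype.val (hAel.1.1.comm ⟨a, ha⟩ ⟨z, hz⟩)
  set C := centralizer ({z} : Set G) with hC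
  set π := QuotientGroup.mk' (oddCore C) with hπ
  rintro w ⟨hwb, hwA⟩
  have hwC : w ∈ C := centralizer_le_of_mem hz (coreCent_le _ hwA)
  let wC : C := ⟨w, hwC⟩
  -- it centralises the first class
  have hw1 : π wC ∈ centralizer (clsImage I₁ z : Set _) := by
    refine mem_centralizer_iff.2 fun q hq => ?_
    have hwD : π wC ∈ coreImage z {b} := mem_map_of_mem _ (mem_subgroupOf.2 hwb)
    have h1 : ⁅q, π wC⁆ ∈ clsImage I₁ z ⊓ coreImage z {b} := by
      refine ⟨?_, ?_⟩
      · rw [commutatorElement_def, mul_assoc q (π wC), mul_assoc]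
        exact mul_mem hq ((inferInstance : (clsImage I₁ z).Normal).conj_mem _ ((clsImage I₁ z).inv_mem hq) _)
      · rw [commutatorElement_def]
        refine (coreImage z {b}).mul_mem ((mem_normalizer_iff.1 ?_ _).1 hwD) ((coreImage z {b}).inv_mem hwD)
        refine (?_ : clsImage I₁ z ≤ _) hq
        rw [clsImage, closure_le]
        rintro _ ⟨v, hv, rfl⟩
        obtain ⟨o, ho, hoc⟩ := exists_conj_commute_of_mod (coreCent_odd ({z} : Set G)) (c.inv₁ _ hv) hb2
          (hmod _ hv (mem_centralizer_singleton_iff.1 v.2))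
        obtain ⟨o', ho', rfl⟩ := ho
        have e : π (o' * v * o'⁻¹) = π v := by
          rw [map_mul, map_mul, map_inv, show π o' = 1 from (QuotientGroup.eq_one_iff _).2 ho', one_mul,
            inv_one, mul_one]
        rw [← hπ, ← e]
        exact mk_mem_normalizer_coreImage (mem_centralizer_singleton_iff.2 hoc.eq)
    rw [c.clsImage_inf hb2 hmod, mem_bot] at h1
    exact commutatorElement_eq_one_iff_mul_comm.1 h1
  -- that centraliser normalises the image of `O(C(A))`
  have hbot := inf_eq_bot_of_le_normalizer (c.oddCore_quot C) (centralizer (clsImage I₁ z : Set _))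
    (coreImage z (A : Set G)) (coreImage_odd z _) (fun q hq => by
      obtain ⟨k, rfl⟩ := QuotientGroup.mk'_surjective _ q
      have hfix : ∀ a ∈ A, (k : G)⁻¹ * (a * k * a⁻¹) ∈ coreCent ({z} : Set G) := by
        intro a ha
        have haC : a ∈ C := mem_centralizer_singleton_iff.2 (hAz a ha).eq
        by_cases ha1 : a = 1
        · subst ha1; simp
        have h2 : π ⁅k⁻¹, (⟨a, haC⟩ : C)⁆ = 1 := by
          rw [map_commutatorElement, commutatorElement_eq_one_iff_mul_comm, map_inv]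
          exact (Commute.inv_left (mem_centralizer_iff.1 hq _
            (mk_mem_clsImage (v := ⟨a, haC⟩) (c.mem_four hx hx' hne hc ha ha1))).symm).eq
        have h3 := commutator_mem_of_mk h2
        rw [commutatorElement_def] at h3
        simpa [mul_assoc] using h3
      obtain ⟨n, hn, hnA⟩ := CfsgLib.Core.exists_centralizing_in_coset
        (N := coreCent ({z} : Set G)) (A := A) (norm_coreCent hAz)
        (coprime_two_group (isPGroup_pair (c.sq₁ hx) (c.sq₁ hx') hc) (coreCent_odd _))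
        (Or.inl (Group.isSolvable_of_comm fun a b => hAel.1.1.comm a b)) (k := (k : G)) hfix
      obtain ⟨n', hn', rfl⟩ := hn
      have e : π (k * n') = π k := by
        rw [map_mul, show π n' = 1 from (QuotientGroup.eq_one_iff _).2 hn', mul_one]
      rw [← hπ, ← e]
      exact mk_mem_normalizer_coreImage hnA)
  have hw : π wC ∈ centralizer (clsImage I₁ z : Set _) ⊓ coreImage z (A : Set G) :=
    ⟨hw1, mem_map_of_mem _ (mem_subgroupOf.2 hwA)⟩
  rw [hbot, mem_bot] at hw
  exact ⟨wC, (QuotientGroup.eq_one_iff _).1 hw, rfl⟩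

/-- The first factor of the functor depends on any one involution of the four-group. -/
theorem pc_four {x x' : G} (hx : x ∈ I₁) (hx' : x' ∈ I₁) (hne : x ≠ x')
    (hc : Commute x x') {z b : G} (hz : z ∈ closure ({x, x'} : Set G))
    (hb : ∀ a ∈ closure ({x, x'} : Set G), Commute a b) (hb2 : orderOf b = 2)
    (hmod : ∀ v ∈ I₁, Commute v z → ⁅v, b⁆ ∈ coreCent ({z} : Set G)) :
    ⁅coreCent ({b} : Set G), closure ({x, x'} : Set G)⁆ ⊔
      (coreCent ({b} : Set G) ⊓ coreCent ((closure ({x, x'} : Set G) : Subgroup G) : Set G)) = Pc b z := by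
  set A := closure ({x, x'} : Set G) with hA
  set Ob := coreCent ({b} : Set G) with hOb
  have hAel := isElementaryAbelian_pair (c.sq₁ hx) (c.sq₁ hx') hc
  have hAz : ∀ a ∈ A, Commute a z := fun a ha => congrArg Subtype.val (hAel.1.1.comm ⟨a, ha⟩ ⟨z, hz⟩)
  have hzA : zpowers z ≤ A := zpowers_le.2 hz
  have hAn : A ≤ normalizer (Ob : Set G) := norm_coreCent hb
  have hP2 : IsPGroup 2 A := isPGroup_pair (c.sq₁ hx) (c.sq₁ hx') hc
  have hAn' : A ≤ normalizer ((Ob ⊓ coreCent ({z} : Set G) : Subgroup G) : Set G) :=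
    (le_inf hAn (norm_coreCent hAz)).trans inf_normalizer_le_normalizer_inf
  refine le_antisymm (sup_le ?_ ((le_inf inf_le_left (c.core_inf_le hx hx' hne hc hz hb2 hmod)).trans
      le_sup_right))
    (sup_le ((commutator_mono le_rfl hzA).trans le_sup_left) ?_)
  · rw [commutator_le]
    intro u hu d hd
    obtain ⟨v, hv, w, hw, rfl⟩ := CfsgLib.Core.exists_mul_centralizing (A := zpowers z) (K := Ob)
      (hzA.trans hAn) (coprime_two_group (hP2.to_le hzA) (coreCent_odd _))
      (Or.inl inferInstance) hu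
    have hPv : v ∈ Pc b z := mem_sup_left hv
    have hwz : Commute w z := (mem_centralizer_iff.1 hw.2 z (mem_zpowers z)).symm
    have hwd : ⁅w, d⁆ ∈ Pc b z := by
      refine mem_sup_right ⟨?_, ?_⟩
      · rw [commutatorElement_def, mul_assoc w d, mul_assoc]
        exact mul_mem hw.1 (CfsgLib.Core.conj_mem_of_le_normalizer hAn hd (inv_mem hw.1))
      · by_cases hd1 : d = 1
        · rw [hd1, commutatorElement_one_right]; exact one_mem _
        exact c.core_comm hb2 hmod hw.1 hwz (c.mem_four hx hx' hne hc hd hd1) (hAz d hd) (hb d hd)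
    have hvd : ⁅v, d⁆ ∈ Pc b z := by
      rw [commutatorElement_def, mul_assoc v d, mul_assoc]
      refine mul_mem hPv (mem_sup_left ?_)
      have hdn : d ∈ normalizer ((⁅Ob, zpowers z⁆ : Subgroup G) : Set G) := by
        refine (?_ : A ≤ _) hd
        rw [le_normalizer_iff]
        intro a ha q hq
        have hle : (⁅Ob, zpowers z⁆).map (MulAut.conj a).toMonoidHom ≤ ⁅Ob, zpowers z⁆ := by
          rw [map_commutator]
          refine commutator_mono ?_ ?_
          · rintro _ ⟨o, ho, rfl⟩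
            exact CfsgLib.Core.conj_mem_of_le_normalizer hAn ha ho
          · rw [MonoidHom.map_zpowers, zpowers_le]
            show a * z * a⁻¹ ∈ zpowers z
            rw [(hAz a ha).eq, mul_inv_cancel_right]
            exact mem_zpowers z
        exact hle (mem_map_of_mem _ hq)
      exact (mem_normalizer_iff.1 hdn _).1 (inv_mem hv)
    rw [commutatorElement_mul_left_eq_conj_mul]
    exact mul_mem (mul_mem (mul_mem hPv hwd) (inv_mem hPv)) hvd
  · intro u hu
    obtain ⟨v, hv, w, hw, rfl⟩ := CfsgLib.Core.exists_mul_centralizing (A := A)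
      (K := Ob ⊓ coreCent ({z} : Set G)) hAn'
      (coprime_two_group hP2 ((coreCent_odd _).of_dvd_nat (card_dvd_of_le inf_le_left)))
      (Or.inl (Group.isSolvable_of_comm fun a b => hAel.1.1.comm a b)) hu
    refine mul_mem (mem_sup_left (commutator_mono inf_le_left le_rfl hv)) (mem_sup_right ⟨hw.1.1, ?_⟩)
    exact mem_coreCent_of hw.2 (Q := coreCent ({z} : Set G) ⊓ centralizer (A : Set G)) inf_le_right
      ((le_inf ((centralizer_le_of_mem hz).trans (coreCent_norm _)) le_normalizer).trans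
        inf_normalizer_le_normalizer_inf)
      ((coreCent_odd _).of_dvd_nat (card_dvd_of_le inf_le_left)) ⟨hw.1.2, hw.2⟩

end Ctx

/-- A pair of pairwise commuting pairs in the two classes. -/
structure Quad (I₁ I₂ : Set G) (x x' y y' : G) : Prop where
  x_mem : x ∈ I₁
  x'_mem : x' ∈ I₁
  x_ne : x ≠ x'
  cx : Commute x x'
  y_mem : y ∈ I₂
  y'_mem : y' ∈ I₂
  y_ne : y ≠ y'
  cy : Commute y y'
  xy : Commute x y
  xy' : Commute x y'
  x'y : Commute x' y
  x'y' : Commute x' y'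

theorem Quad.commute_closure {x x' y y' : G} (q : Quad I₁ I₂ x x' y y') {a b : G}
    (ha : a ∈ closure ({x, x'} : Set G)) (hb : b ∈ closure ({y, y'} : Set G)) : Commute a b := by
  have h1 : closure ({x, x'} : Set G) ≤ centralizer ({y, y'} : Set G) :=
    (closure_le _).2 (by
      rintro v (rfl | rfl) <;> refine mem_centralizer_iff.2 ?_ <;> rintro w (rfl | rfl)
      exacts [q.xy.eq.symm, q.xy'.eq.symm, q.x'y.eq.symm, q.x'y'.eq.symm])
  have h2 : closure ({y, y'} : Set G) ≤ centralizer ({a} : Set G) :=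
    (closure_le _).2 fun v hv => mem_centralizer_singleton_iff.2 (mem_centralizer_iff.1 (h1 ha) v hv)
  exact (mem_centralizer_singleton_iff.1 (h2 hb)).symm

theorem Quad.inf_eq_bot (c : Ctx I₁ I₂) {x x' y y' : G} (q : Quad I₁ I₂ x x' y y') :
    closure ({x, x'} : Set G) ⊓ closure ({y, y'} : Set G) = ⊥ :=
  (eq_bot_iff_forall _).2 fun _ ha => by_contra fun h1 =>
    c.not_mem (c.mem_four q.x_mem q.x'_mem q.x_ne q.cx ha.1 h1)
      (c.swap.mem_four q.y_mem q.y'_mem q.y_ne q.cy ha.2 h1)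

/-- The two four-groups are core-separated, by induction. -/
theorem Quad.coreSeparated (c : Ctx I₁ I₂) {x x' y y' : G} (q : Quad I₁ I₂ x x' y y') :
    IsCoreSeparated (closure ({x, x'} : Set G)) (closure ({y, y'} : Set G)) := by
  haveI : Fact (Nat.Prime 2) := ⟨Nat.prime_two⟩
  set A₁ := closure ({x, x'} : Set G) with hA₁
  set A₂ := closure ({y, y'} : Set G) with hA₂
  have he₁ := isElementaryAbelian_pair (c.sq₁ q.x_mem) (c.sq₁ q.x'_mem) q.cx
  have he₂ := isElementaryAbelian_pair (c.sq₂ q.y_mem) (c.sq₂ q.y'_mem) q.cy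
  refine ⟨he₁, he₂, card_closure_pair (c.inv₁ x q.x_mem) (c.inv₁ x' q.x'_mem) q.cx q.x_ne,
    card_closure_pair (c.inv₂ y q.y_mem) (c.inv₂ y' q.y'_mem) q.cy q.y_ne, ?_, q.inf_eq_bot c,
    fun u hu v hv => (q.commute_closure hu hv).eq, ?_⟩
  · intro e
    have : x ∈ A₁ ⊓ A₂ := ⟨subset_closure (Or.inl rfl), e ▸ subset_closure (Or.inl rfl)⟩
    rw [q.inf_eq_bot c, mem_bot] at this
    exact c.ne_one₁ q.x_mem this
  intro u hu hu1
  have hn : A₁ ≤ normalizer (A₂ : Set G) := fun v hv =>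
    centralizer_le_normalizer _ (mem_centralizer_iff.2 fun w hw => (q.commute_closure hv hw).eq.symm)
  obtain ⟨a, ha, b, hb, rfl⟩ := (CfsgLib.Core.mem_sup_iff_mul hn).1 hu
  set C := centralizer ({a * b} : Set G) with hC
  intro E hE
  have hC₁ : ∀ d ∈ A₁, d ∈ C := fun d hd => mem_centralizer_singleton_iff.2
    (Commute.mul_right (show Commute d a from congrArg Subtype.val (he₁.1.1.comm ⟨d, hd⟩ ⟨a, ha⟩))
      (q.commute_closure hd hb)).eq
  have hC₂ : ∀ d ∈ A₂, d ∈ C := fun d hd => mem_centralizer_singleton_iff.2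
    ((q.commute_closure ha hd).symm.mul_right
      (show Commute d b from congrArg Subtype.val (he₂.1.1.comm ⟨d, hd⟩ ⟨b, hb⟩))).eq
  set π := QuotientGroup.mk' (oddCore C) with hπ
  set M := E.map π with hM
  haveI := c.clsImage_norm₁ (a * b)
  have bound : ∀ A : Subgroup G, ∀ hA : (∀ d ∈ A, d ∈ C),
      (∀ d (hd : d ∈ A), π ⟨d, hA d hd⟩ ∈ centralizer (M : Set _)) →
      ⁅E.map C.subtype, A⁆ ≤ centralizerPPrimeCore 2 (a * b) := by
    intro A hA h
    rw [commutator_le]
    rintro _ ⟨e, he, rfl⟩ d hd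
    refine commutator_mem_of_mk (u := e) (v := ⟨d, hA d hd⟩) ?_
    rw [map_commutatorElement, commutatorElement_eq_one_iff_mul_comm]
    exact mem_centralizer_iff.1 (h d hd) _ (mem_map_of_mem π he)
  rcases CfsgLib.Components.component_le_or_commutes (show IsComponent M from hE.2.1)
      (Subgroup.Normal.isSubnormal (c.clsImage_norm₁ (a * b))) with h | h
  · -- the component lies in the closure of the first class, which the second centralises
    right
    refine bound A₂ hC₂ fun d hd => ?_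
    refine centralizer_le (SetLike.coe_subset_coe.2 h) (mem_centralizer_iff.2 fun m hm => ?_)
    have hle : clsImage I₁ (a * b) ≤ centralizer ({π ⟨d, hC₂ d hd⟩} : Set _) := by
      rw [clsImage, closure_le]
      rintro _ ⟨v, hv, rfl⟩
      refine mem_centralizer_singleton_iff.2 ?_
      by_cases hd1 : d = 1
      · have : (⟨d, hC₂ d hd⟩ : C) = 1 := Subtype.ext hd1
        rw [this, map_one, one_mul, mul_one]
      refine commutatorElement_eq_one_iff_mul_comm.1 ?_
      rw [← map_commutatorElement]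
      exact mk_commutator_eq_one (c.below_cen hu1 hv (c.swap.mem_four q.y_mem q.y'_mem q.y_ne q.cy hd hd1)
        (mem_centralizer_singleton_iff.1 v.2) (mem_centralizer_singleton_iff.1 (hC₂ d hd)))
    exact mem_centralizer_singleton_iff.1 (hle hm)
  · left
    refine bound A₁ hC₁ fun d hd => ?_
    by_cases hd1 : d = 1
    · have : (⟨d, hC₁ d hd⟩ : C) = 1 := Subtype.ext hd1
      rw [this, map_one]
      exact one_mem _
    have hd' : π ⟨d, hC₁ d hd⟩ ∈ clsImage I₁ (a * b) :=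
      mk_mem_clsImage (c.mem_four q.x_mem q.x'_mem q.x_ne q.cx hd hd1)
    refine mem_centralizer_iff.2 fun m hm => commutatorElement_eq_one_iff_mul_comm.1 ?_
    have h1 := commutator_mem_commutator (H₁ := M) (H₂ := clsImage I₁ (a * b)) hm hd'
    rwa [h, mem_bot] at h1

/-- One odd subgroup is `Wc` of every pair in a quadruple. -/
theorem Quad.exists_W (c : Ctx I₁ I₂) {x x' y y' : G} (q : Quad I₁ I₂ x x' y y') :
    ∃ W : Subgroup G, Odd (Nat.card W) ∧
      ∀ u ∈ closure ({x, x'} : Set G), u ≠ 1 → ∀ v ∈ closure ({y, y'} : Set G), v ≠ 1 → Wc u v = W := by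
  haveI : Fact (Nat.Prime 2) := ⟨Nat.prime_two⟩
  set A₁ := closure ({x, x'} : Set G) with hA₁
  set A₂ := closure ({y, y'} : Set G) with hA₂
  have hcs := q.coreSeparated c
  rw [← hA₁, ← hA₂] at hcs
  obtain ⟨hθC, hθo, hθinv, hbal⟩ := Cfsg.Agent.S1330.result A₁ A₂ hcs
  set θ : G → Subgroup G := fun a =>
    (⁅centralizerPPrimeCore 2 a, A₁⁆ ⊔ (centralizerPPrimeCore 2 a ⊓ coreCent (A₁ : Set G))) ⊓
      (⁅centralizerPPrimeCore 2 a, A₂⁆ ⊔ (centralizerPPrimeCore 2 a ⊓ coreCent (A₂ : Set G))) with hθ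
  have hodd : ∀ a ∈ A₁ ⊔ A₂, a ≠ 1 → Odd (Nat.card (θ a)) := fun a ha ha1 =>
    Nat.not_even_iff_odd.1 fun h => hθo a ha ha1 (even_iff_two_dvd.1 h)
  obtain ⟨⟨hc1, he1⟩, ⟨hc2, he2⟩, hk1, hk2, -, hinf, hcomm, -⟩ := hcs
  have hn12 : A₁ ≤ normalizer (A₂ : Set G) := fun u hu =>
    centralizer_le_normalizer _ (mem_centralizer_iff.2 fun v hv => (hcomm u hu v hv).symm)
  have hmul : ∀ a ∈ A₁ ⊔ A₂, ∃ u ∈ A₁, ∃ v ∈ A₂, a = u * v := fun a ha =>
    (CfsgLib.Core.mem_sup_iff_mul hn12).1 ha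
  have hAcomm : ∀ a ∈ A₁ ⊔ A₂, ∀ b ∈ A₁ ⊔ A₂, a * b = b * a := by
    intro a ha b hb
    obtain ⟨u, hu, v, hv, rfl⟩ := hmul a ha
    obtain ⟨u', hu', v', hv', rfl⟩ := hmul b hb
    have e1 : Commute u u' := congrArg Subtype.val (hc1.1.comm ⟨u, hu⟩ ⟨u', hu'⟩)
    have e2 : Commute v v' := congrArg Subtype.val (hc2.1.comm ⟨v, hv⟩ ⟨v', hv'⟩)
    exact ((e1.mul_right (hcomm u hu v' hv')).mul_left
      ((Commute.symm (hcomm u' hu' v hv)).mul_right e2)).eq
  have hAexp : ∀ a ∈ A₁ ⊔ A₂, a ^ 2 = 1 := fun a ha => by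
    obtain ⟨u, hu, v, hv, rfl⟩ := hmul a ha
    rw [Commute.mul_pow (hcomm u hu v hv), he1 u hu, he2 v hv, one_mul]
  have hArank : 2 ^ 3 ≤ Nat.card ↥(A₁ ⊔ A₂) := by
    rw [CfsgLib.Core.card_sup_of_disjoint A₁ A₂ hn12 hinf, hk1, hk2]
    norm_num
  obtain ⟨hWo, hWfix⟩ := Cfsg.Agent.S0217.result (p := 2) (A₁ ⊔ A₂) hAcomm hAexp hArank θ hθC hθo hθinv
    (fun a ha ha1 => CfsgLib.OddLocal.FTFinal.odd_order_solvable (hodd a ha ha1)) hbal
  set W := ⨆ a : {a : G // a ∈ A₁ ⊔ A₂ ∧ a ≠ 1}, θ a with hW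
  refine ⟨W, Nat.not_even_iff_odd.1 fun h => hWo (even_iff_two_dvd.1 h), fun u hu hu1 v hv hv1 => ?_⟩
  have hAn : A₁ ⊔ A₂ ≤ normalizer (W : Set G) := by
    rw [le_normalizer_iff]
    intro b hb k hk
    have hle : W.map (MulAut.conj b).toMonoidHom ≤ W := by
      rw [hW, Subgroup.map_iSup]
      refine iSup_le fun a => le_trans ?_ (le_iSup _ a)
      rintro _ ⟨k, hk, rfl⟩
      exact hθinv a a.2.1 a.2.2 b hb k hk
    exact hle (mem_map_of_mem _ hk)
  have huv : u * v ≠ 1 := fun h => by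
    have hu₂ : u ∈ A₂ := by rw [mul_eq_one_iff_eq_inv.1 h]; exact A₂.inv_mem hv
    have : u ∈ A₁ ⊓ A₂ := ⟨hu, hu₂⟩
    rw [hinf, mem_bot] at this
    exact hu1 this
  have huI := c.mem_four q.x_mem q.x'_mem q.x_ne q.cx hu hu1
  have hvI := c.swap.mem_four q.y_mem q.y'_mem q.y_ne q.cy hv hv1
  have huv' : Commute u v := hcomm u hu v hv
  have hu2 : orderOf u = 2 := c.inv₁ u huI
  have hv2 : orderOf v = 2 := c.inv₂ v hvI
  have hmem : u ∈ A₁ ⊔ A₂ ∧ v ∈ A₁ ⊔ A₂ := ⟨mem_sup_left hu, mem_sup_right hv⟩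
  -- `b` commutes with the first class of `C(u)` modulo the core, `b ∈ {u, v, uv}`
  have mods : ∀ {J₁ J₂ : Set G} (_ : Ctx J₁ J₂) {p r : G}, p ∈ J₁ → r ∈ J₂ → Commute p r →
      ∀ b, b = p ∨ b = r ∨ b = p * r →
        ∀ w ∈ J₁, Commute w p → ⁅w, b⁆ ∈ coreCent ({p} : Set G) := by
    intro J₁ J₂ d p r hp hr hpr b hb w hw hwp
    have h1 : ⁅w, p⁆ = 1 := commutatorElement_eq_one_iff_commute.2 hwp
    rcases hb with rfl | rfl | rfl
    · rw [h1]; exact one_mem _
    · exact d.below_cen (d.ne_one₁ hp) hw hr hwp hpr.symm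
    · rw [commutatorElement_mul_right_eq_mul_conj, h1, one_mul]
      exact CfsgLib.Core.conj_mem_of_le_normalizer (coreCent_norm _)
        (mem_centralizer_singleton_iff.2 rfl) (d.below_cen (d.ne_one₁ hp) hw hr hwp hpr.symm)
  have key : ∀ a, (a = u ∨ a = v ∨ a = u * v) → θ a = Pc a u ⊓ Pc a v := by
    intro a ha
    have haA : a ∈ A₁ ⊔ A₂ := by
      rcases ha with rfl | rfl | rfl
      exacts [hmem.1, hmem.2, mul_mem hmem.1 hmem.2]
    have ha2 : orderOf a = 2 := by
      rcases ha with rfl | rfl | rfl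
      exacts [hu2, hv2, c.mul_sq huI hvI huv']
    show (⁅coreCent ({a} : Set G), A₁⁆ ⊔ (coreCent ({a} : Set G) ⊓ coreCent (A₁ : Set G))) ⊓
      (⁅coreCent ({a} : Set G), A₂⁆ ⊔ (coreCent ({a} : Set G) ⊓ coreCent (A₂ : Set G))) = _
    rw [c.pc_four q.x_mem q.x'_mem q.x_ne q.cx hu (fun b hb => hAcomm b (mem_sup_left hb) a haA) ha2
        (mods c huI hvI huv' a ha),
      c.swap.pc_four q.y_mem q.y'_mem q.y_ne q.cy hv (fun b hb => hAcomm b (mem_sup_right hb) a haA) ha2
        (mods c.swap hvI huI huv'.symm a (by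
          rcases ha with rfl | rfl | rfl
          exacts [Or.inr (Or.inl rfl), Or.inl rfl, Or.inr (Or.inr huv'.eq)]))]
  have hA₀ : closure ({u, v} : Set G) ≤ A₁ ⊔ A₂ := (closure_le _).2 (by
    rintro w (rfl | rfl); exacts [hmem.1, hmem.2])
  refine le_antisymm (sup_le (sup_le ?_ ?_) ?_) ?_
  · rw [← key u (Or.inl rfl)]
    exact le_iSup (fun a : {a : G // a ∈ A₁ ⊔ A₂ ∧ a ≠ 1} => θ a) ⟨u, hmem.1, hu1⟩
  · rw [← key v (Or.inr (Or.inl rfl))]
    exact le_iSup (fun a : {a : G // a ∈ A₁ ⊔ A₂ ∧ a ≠ 1} => θ a) ⟨v, hmem.2, hv1⟩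
  · rw [← key (u * v) (Or.inr (Or.inr rfl))]
    exact le_iSup (fun a : {a : G // a ∈ A₁ ⊔ A₂ ∧ a ≠ 1} => θ a) ⟨u * v, mul_mem hmem.1 hmem.2, huv⟩
  · refine CfsgLib.Signalizer.Solv.le_of_fixed_le (p := 2)
      (isElementaryAbelian_pair (involution_sq hu2) (involution_sq hv2) huv') ?_
      (hA₀.trans hAn) hWo fun a ha ha1 => ?_
    · rw [card_closure_pair hu2 hv2 huv' fun h => huv (by rw [h, involution_sq hv2])]
      norm_num
    rcases mem_closure_pair_cases (involution_sq hu2) (involution_sq hv2) huv' ha with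
      rfl | rfl | rfl | rfl
    · exact absurd rfl ha1
    · rw [hWfix _ (hA₀ ha) ha1, key _ (Or.inl rfl)]
      exact le_sup_of_le_left le_sup_left
    · rw [hWfix _ (hA₀ ha) ha1, key _ (Or.inr (Or.inl rfl))]
      exact le_sup_of_le_left le_sup_right
    · rw [hWfix _ (hA₀ ha) ha1, key _ (Or.inr (Or.inr rfl))]
      exact le_sup_right

namespace Ctx

variable (c : Ctx I₁ I₂)

include c

theorem exists_quad {x y : G} (hx : x ∈ I₁) (hy : y ∈ I₂) (hxy : Commute x y) :
    ∃ x' y', Quad I₁ I₂ x x' y y' := by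
  obtain ⟨P, P₁, P₂, hP, hP', h⟩ := c.split_at_pair (c.sq₁ hx) (c.sq₂ hy) hxy
  have hxP := h.mem_left hx hP
  have hyP := h.mem_right hy hP'
  have hpart : ∀ {J₁ J₂ : Set G} (_ : Ctx J₁ J₂) {Q₁ Q₂ : Subgroup G}, Split J₁ J₂ P Q₁ Q₂ →
      ∀ {v : G}, v ∈ J₁ → v ∈ Q₁ → ∃ v' ∈ J₁, v' ∈ Q₁ ∧ v' ≠ v ∧ Commute v v' := by
    intro J₁ J₂ d Q₁ Q₂ k v hv hvQ
    obtain ⟨w, hw, hwne, hwc⟩ := d.exists_partner hv
    obtain ⟨z, hz, hz2, hzc⟩ := k.exists_center (fun e => d.ne_one₁ hv (by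
      rw [e, mem_bot] at hvQ; exact hvQ))
    by_cases hzv : z = v
    · subst hzv
      by_contra hno
      push Not at hno
      have hiso : ∀ g : G, g * z * g⁻¹ ∈ (P : Subgroup G) → g * z * g⁻¹ = z := by
        intro g hg
        by_contra hne
        exact hno _ (d.conj₁ z hv g) (k.mem_left (d.conj₁ z hv g) hg) hne (hzc _ hg).symm
      exact involution_ne_one hz2
        (d.no_center z (DihedralProduct.central_of_isolated d.core P hz2 (k.le₁ hvQ) hiso))
    · exact ⟨z, k.mem_class hz hz2, hz, hzv, hzc v (k.le₁ hvQ)⟩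
  obtain ⟨x', hx', hx'P, hne, hcx⟩ := hpart c h hx hxP
  obtain ⟨y', hy', hy'P, hne', hcy⟩ := hpart c.swap h.swap hy hyP
  exact ⟨x', y', hx, hx', hne.symm, hcx, hy, hy', hne'.symm, hcy,
    hxy, h.commute hxP hy'P, h.commute hx'P hyP, h.commute hx'P hy'P⟩

theorem odd_Wc {x y : G} (hx : x ∈ I₁) (hy : y ∈ I₂) (hxy : Commute x y) :
    Odd (Nat.card (Wc x y)) := by
  obtain ⟨x', y', q⟩ := c.exists_quad hx hy hxy
  obtain ⟨W, hW, h⟩ := q.exists_W c
  rw [h x (subset_closure (Or.inl rfl)) (c.ne_one₁ hx) y (subset_closure (Or.inl rfl)) (c.ne_one₂ hy)]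
  exact hW

theorem Wc_eq_left {x x' y : G} (hx : x ∈ I₁) (hx' : x' ∈ I₁) (hy : y ∈ I₂)
    (hc : Commute x x') (hxy : Commute x y) (hx'y : Commute x' y) : Wc x y = Wc x' y := by
  by_cases hne : x = x'
  · rw [hne]
  obtain ⟨P, P₁, P₂, hP, h⟩ := c.exists_split _ (isPGroup_closure (s := ({x, x', y} : Set G))
    (by rintro v (rfl | rfl | rfl); exacts [c.sq₁ hx, c.sq₁ hx', c.sq₂ hy])
    (by rintro v (rfl | rfl | rfl) w (rfl | rfl | rfl) <;>
      first | exact Commute.refl _ | exact hc | exact hc.symm | exact hxy | exact hxy.symm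
            | exact hx'y | exact hx'y.symm))
  have hxP := h.mem_left hx (hP (subset_closure (Or.inl rfl)))
  have hx'P := h.mem_left hx' (hP (subset_closure (Or.inr (Or.inl rfl))))
  have hyP := h.mem_right hy (hP (subset_closure (Or.inr (Or.inr rfl))))
  obtain ⟨z, hz, hz2, hzc⟩ := h.swap.exists_center (fun e => c.ne_one₂ hy (by
    rw [e, mem_bot] at hyP; exact hyP))
  obtain ⟨y', hy', hy'P, hne', hcy⟩ : ∃ y' ∈ I₂, y' ∈ P₂ ∧ y' ≠ y ∧ Commute y y' := by
    by_cases hzy : z = y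
    · subst hzy
      by_contra hno
      push Not at hno
      have hiso : ∀ g : G, g * z * g⁻¹ ∈ (P : Subgroup G) → g * z * g⁻¹ = z := by
        intro g hg
        by_contra hne
        exact hno _ (c.conj₂ z hy g) (h.mem_right (c.conj₂ z hy g) hg) hne (hzc _ hg).symm
      exact involution_ne_one hz2
        (c.no_center z (DihedralProduct.central_of_isolated c.core P hz2 (h.le₂ hyP) hiso))
    · exact ⟨z, h.swap.mem_class hz hz2, hz, hzy, hzc y (h.le₂ hyP)⟩
  have q : Quad I₁ I₂ x x' y y' := ⟨hx, hx', hne, hc, hy, hy', hne'.symm, hcy,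
    hxy, h.commute hxP hy'P, hx'y, h.commute hx'P hy'P⟩
  obtain ⟨W, -, hW⟩ := q.exists_W c
  rw [hW x (subset_closure (Or.inl rfl)) (c.ne_one₁ hx) y (subset_closure (Or.inl rfl)) (c.ne_one₂ hy),
    hW x' (subset_closure (Or.inr rfl)) (c.ne_one₁ hx') y (subset_closure (Or.inl rfl)) (c.ne_one₂ hy)]

theorem Wc_eq_right {x y y' : G} (hx : x ∈ I₁) (hy : y ∈ I₂) (hy' : y' ∈ I₂)
    (hc : Commute y y') (hxy : Commute x y) (hxy' : Commute x y') : Wc x y = Wc x y' := by
  rw [Wc_comm hxy, c.swap.Wc_eq_left hy hy' hx hc hxy.symm hxy'.symm, Wc_comm hxy'.symm]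

/-- `Wc` is constant on commuting quadruples. -/
theorem Wc_eq {x x' y y' : G} (hx : x ∈ I₁) (hx' : x' ∈ I₁) (hy : y ∈ I₂)
    (hy' : y' ∈ I₂) (hcx : Commute x x') (hcy : Commute y y') (hxy : Commute x y) (hx'y : Commute x' y)
    (hx'y' : Commute x' y') : Wc x y = Wc x' y' :=
  (c.Wc_eq_left hx hx' hy hcx hxy hx'y).trans (c.Wc_eq_right hx' hy hy' hcy hx'y hx'y')

end Ctx

end CfsgLib.TwoFusion.ProductFusion
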