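import Cfsg.Agent.Lib.TwoFusion.ProductFusion.Functor

/-!
Owner: helper14. No simple group carries the standing data: the normaliser `M` of the subgroup of a
central pair is proper, contains with an involution of a class all involutions of that class commuting
with it, and so contains all conjugates of a central involution of the second factor.
-/

set_option autoImplicit false

namespace CfsgLib.TwoFusion.ProductFusion

open Subgroup Cfsg
open CfsgLib.Signalizer (involution_sq involution_inv involution_ne_one orderOf_eq_two_of orderOf_conj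
  mul_pair_zpow)
open CfsgLib.FTDep (coreCent coreCent_le coreCent_norm coreCent_odd)
open CfsgLib.TwoFusion.DihedralProduct (isPGroup_pair isPGroup_closure_two commute_of_sq map_eq_iff map_Wc
  commutator_core_le commutator_mixed_le norm_coreCent coprime_two_group exists_conj_into
  exists_conj_of_mul_mem Wc isElementaryAbelian_pair mem_closure_pair_cases card_closure_pair)
open scoped commutatorElement

universe u

variable {G : Type u} [Group G]

theorem commute_conj {a b : G} (h : Commute a b) (g : G) :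
    Commute (g * a * g⁻¹) (g * b * g⁻¹) := by
  simpa using h.map (MulAut.conj g).toMonoidHom

theorem mem_norm_conj [Finite G] (g a b z : G) :
    g * z * g⁻¹ ∈ normalizer (Wc a b : Set G) ↔
      z ∈ normalizer (Wc (g⁻¹ * a * g) (g⁻¹ * b * g) : Set G) := by
  rw [← map_eq_iff, ← map_eq_iff, map_Wc, map_Wc]
  have h : Wc a b = (Wc (g⁻¹ * a * g) (g⁻¹ * b * g)).map (MulAut.conj g).toMonoidHom := by
    rw [map_Wc]; congr 1 <;> group
  constructor
  · intro e
    refine Subgroup.map_injective (f := (MulAut.conj g).toMonoidHom) (MulAut.conj g).injective ?_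
    rw [← h, map_Wc, ← e]
    congr 1 <;> group
  · intro e
    rw [h, ← e, map_Wc]
    congr 1 <;> group

variable [Finite G] {I₁ I₂ : Set G}

namespace Ctx

variable (c : Ctx I₁ I₂)

include c

/-- A product of involutions of different classes has order twice odd, and its involution is mixed. -/
theorem pair_twice_odd {x y : G} (hx : x ∈ I₁) (hy : y ∈ I₂) :
    ∃ q, Odd q ∧ orderOf (x * y) = 2 * q ∧ (x * y) ^ q * y ∈ I₁ ∧ Commute ((x * y) ^ q * y) y ∧
      Commute ((x * y) ^ q) x := by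
  set r := x * y with hr
  have hx2 := c.inv₁ x hx
  have hy2 := c.inv₂ y hy
  have heven : Even (orderOf r) := by
    by_contra ho
    obtain ⟨d, -, hd⟩ := CfsgLib.Signalizer.exists_conj_of_odd hx2 hy2 (Nat.not_even_iff_odd.1 ho)
    exact c.swap.not_mem hy (hd ▸ c.conj₁ x hx d)
  obtain ⟨j, q, hq, hjq⟩ := Nat.exists_eq_pow_mul_and_not_dvd (orderOf_pos r).ne' 2 (by norm_num)
  have hqodd : Odd q := Nat.not_even_iff_odd.1 fun h => hq (even_iff_two_dvd.1 h)
  obtain ⟨t, ht⟩ := hqodd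
  set w := x * r ^ q with hw
  have hwI : w ∈ I₂ := by
    have h1 : w = (r ^ t)⁻¹ * y * ((r ^ t)⁻¹)⁻¹ := by
      have h3 : x * r ^ t = (r ^ t)⁻¹ * x := by
        rw [← zpow_natCast, mul_pair_zpow hx2 hy2, zpow_neg]
      calc w = x * r ^ t * r * r ^ t := by
            rw [hw, ht, mul_assoc x, ← pow_succ, mul_assoc, ← pow_add]
            congr 2; omega
        _ = (r ^ t)⁻¹ * (x * r) * r ^ t := by rw [h3]; group
        _ = _ := by rw [hr, ← mul_assoc x x y, involution_sq hx2, one_mul, inv_inv]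
    rw [h1]
    exact c.conj₂ y hy _
  have hxw : x * w = r ^ q := by rw [hw, ← mul_assoc, involution_sq hx2, one_mul]
  have hdvd : orderOf (x * w) ∣ 2 ^ j := by
    rw [hxw]
    refine orderOf_dvd_of_pow_eq_one ?_
    rw [← pow_mul, mul_comm, ← hjq, pow_orderOf_eq_one]
  have hcomm := c.commute_of_pGroup (isPGroup_closure_two hx2 (c.inv₂ w hwI) hdvd) hx hwI
    (subset_closure (Or.inl rfl)) (subset_closure (Or.inr rfl))
  have hsq : r ^ (q * 2) = 1 := by
    rw [pow_mul, ← hxw, hcomm.mul_pow, pow_two, pow_two, involution_sq hx2, c.sq₂ hwI, one_mul]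
  have hj1 : j = 1 := by
    have h1 : 2 ^ j * q ∣ q * 2 := hjq ▸ orderOf_dvd_of_pow_eq_one hsq
    rw [mul_comm q 2] at h1
    have h2 := Nat.le_of_dvd two_pos (Nat.dvd_of_mul_dvd_mul_right (by omega) h1)
    have hj0 : j ≠ 0 := fun h0 => by
      rw [h0, pow_zero, one_mul] at hjq
      rw [hjq] at heven
      exact Nat.not_even_iff_odd.2 ⟨t, ht⟩ heven
    by_contra hne
    have : 2 ^ 2 ≤ 2 ^ j := Nat.pow_le_pow_right two_pos (by omega)
    omega
  rw [hj1, pow_one] at hjq
  have hdiv : orderOf r / 2 = q := by omega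
  obtain ⟨-, hcx, hcy⟩ := CfsgLib.Signalizer.central_involution hx2 hy2 heven
  rw [← hr, hdiv] at hcx hcy
  refine ⟨q, ⟨t, ht⟩, hjq, ?_, hcy.mul_left (Commute.refl y), hcx⟩
  obtain ⟨d, -, hd⟩ := CfsgLib.Signalizer.exists_conj_pair_zpow hx2 hy2 (t : ℤ)
  have e : r ^ q * y = r ^ (2 * (t : ℤ)) * x := by
    rw [ht, pow_succ, mul_assoc, hr, mul_assoc x y y, c.sq₂ hy, mul_one]
    norm_cast
  rw [e, hr, ← hd]
  exact c.conj₁ x hx d

theorem pair_cen_le {x y g : G} (hgx : Commute g x) (hgy : Commute g y) :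
    g ∈ normalizer (Wc x y : Set G) := by
  refine map_eq_iff.1 ?_
  rw [map_Wc, hgx.eq, hgy.eq, mul_inv_cancel_right, mul_inv_cancel_right]

theorem core_le {x y : G} (hx : x ∈ I₁) (hxy : Commute x y) :
    coreCent ({y} : Set G) ≤ normalizer (Wc x y : Set G) := by
  intro u hu
  have hn : zpowers x ≤ normalizer (coreCent ({y} : Set G) : Set G) := norm_coreCent fun a ha => by
    obtain ⟨k, rfl⟩ := mem_zpowers_iff.1 ha
    exact hxy.zpow_left k
  have h2 : IsPGroup 2 (zpowers x) :=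
    IsPGroup.of_card (n := 1) (by rw [Nat.card_zpowers, c.inv₁ x hx, pow_one])
  obtain ⟨v, hv, w, hw, rfl⟩ := CfsgLib.Core.exists_mul_centralizing hn
    (coprime_two_group h2 (coreCent_odd _)) (Or.inl inferInstance) hu
  refine mul_mem (le_normalizer (commutator_core_le hxy hv)) ?_
  exact c.pair_cen_le (mem_centralizer_iff.1 hw.2 x (mem_zpowers x)).symm
    (mem_centralizer_singleton_iff.1 (coreCent_le _ hw.1))

theorem mixed_le {x y : G} (hx : x ∈ I₁) (hy : y ∈ I₂) (hxy : Commute x y) {g : G}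
    (hg : Commute g (x * y)) : g ∈ normalizer (Wc x y : Set G) := by
  obtain ⟨u, hu, h1, h2⟩ := c.cen_mixed hx hy hxy hg
  have hug := c.pair_cen_le h1 h2
  refine (mul_mem_cancel_left ?_).1 hug
  have hn : zpowers x ≤ normalizer (coreCent ({x * y} : Set G) : Set G) := norm_coreCent fun a ha => by
    obtain ⟨k, rfl⟩ := mem_zpowers_iff.1 ha
    exact ((Commute.refl x).mul_right hxy).zpow_left k
  have h2' : IsPGroup 2 (zpowers x) :=
    IsPGroup.of_card (n := 1) (by rw [Nat.card_zpowers, c.inv₁ x hx, pow_one])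
  obtain ⟨v, hv, w, hw, rfl⟩ := CfsgLib.Core.exists_mul_centralizing hn
    (coprime_two_group h2' (coreCent_odd _)) (Or.inl inferInstance) hu
  refine mul_mem (le_normalizer ?_) ?_
  · refine (commutator_le.2 fun k hk l hl => ?_) hv
    obtain ⟨i, rfl⟩ := mem_zpowers_iff.1 hl
    rcases Int.even_or_odd i with ⟨e, rfl⟩ | ⟨e, rfl⟩
    · rw [← two_mul, zpow_mul, zpow_two, c.sq₁ hx, one_zpow, commutatorElement_one_right]
      exact one_mem _
    · rw [zpow_add, zpow_mul, zpow_two, c.sq₁ hx, one_zpow, one_mul, zpow_one]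
      exact commutator_mixed_le (c.sq₁ hx) (c.sq₂ hy) hxy hk
  · have hwx : Commute w x := (mem_centralizer_iff.1 hw.2 x (mem_zpowers x)).symm
    have hwa : Commute w (x * y) := mem_centralizer_singleton_iff.1 (coreCent_le _ hw.1)
    refine c.pair_cen_le hwx ?_
    have := hwx.inv_right.mul_right hwa
    rwa [inv_mul_cancel_left] at this

/-- An element of the second class commuting with `y` normalises the subgroup of every pair `x, y`. -/
theorem norm_of_commute {x y y' : G} (hx : x ∈ I₁) (hy : y ∈ I₂) (hy' : y' ∈ I₂) (hxy : Commute x y)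
    (hc : Commute y y') : y' ∈ normalizer (Wc x y : Set G) := by
  obtain ⟨o, ho, hoc⟩ := exists_conj_commute_of_mod (coreCent_odd ({y} : Set G)) (c.inv₁ x hx)
    (c.inv₂ y' hy') (c.below_cen (c.ne_one₂ hy) hx hy' hxy hc.symm)
  have hoy : Commute o y := mem_centralizer_singleton_iff.1 (coreCent_le _ ho)
  have hxy' : Commute (o * x * o⁻¹) y := (hoy.mul_left hxy).mul_left hoy.inv_left
  have hW : Wc (o * x * o⁻¹) y = Wc x y := by
    conv_lhs => rw [show y = o * y * o⁻¹ by rw [hoy.eq, mul_inv_cancel_right]]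
    rw [← map_Wc]
    exact map_eq_iff.2 (c.core_le hx hxy ho)
  rw [← hW, c.Wc_eq_right (c.conj₁ x hx o) hy hy' hc hxy' hoc]
  exact c.pair_cen_le hoc.symm (Commute.refl _)

end Ctx

/-- A split Sylow subgroup with an involution of each factor central in it. -/
structure Base (I₁ I₂ : Set G) (S : Sylow 2 G) (S₁ S₂ : Subgroup G) (z₁ z₂ : G) : Prop where
  ctx : Ctx I₁ I₂
  split : Split I₁ I₂ S S₁ S₂
  mem₁ : z₁ ∈ S₁
  ord₁ : orderOf z₁ = 2
  cen₁ : ∀ s ∈ (S : Subgroup G), Commute s z₁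
  mem₂ : z₂ ∈ S₂
  ord₂ : orderOf z₂ = 2
  cen₂ : ∀ s ∈ (S : Subgroup G), Commute s z₂

namespace Base

variable {S : Sylow 2 G} {S₁ S₂ : Subgroup G} {z₁ z₂ : G} (B : Base I₁ I₂ S S₁ S₂ z₁ z₂)

include B

theorem in₁ : z₁ ∈ I₁ := B.split.mem_class B.mem₁ B.ord₁

theorem in₂ : z₂ ∈ I₂ := B.split.swap.mem_class B.mem₂ B.ord₂

theorem comm₁₂ : Commute z₁ z₂ := B.split.commute B.mem₁ B.mem₂

theorem sylow_le : (S : Subgroup G) ≤ normalizer (Wc z₁ z₂ : Set G) := fun s hs =>
  B.ctx.pair_cen_le (B.cen₁ s hs) (B.cen₂ s hs)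

theorem wc_base {x y : G} (hx : x ∈ I₁) (hy : y ∈ I₂) (hxS : x ∈ (S : Subgroup G))
    (hyS : y ∈ (S : Subgroup G)) : Wc x y = Wc z₁ z₂ :=
  B.ctx.Wc_eq hx B.in₁ hy B.in₂ (B.cen₁ x hxS) (B.cen₂ y hyS)
    (B.split.commute (B.split.mem_left hx hxS) (B.split.mem_right hy hyS))
    (B.cen₁ y hyS).symm B.comm₁₂

theorem exists_conj_eq {a b : G} (ha : a ∈ I₁) (hb : b ∈ I₂) (hab : Commute a b) :
    ∃ g : G, (Wc a b).map (MulAut.conj g).toMonoidHom = Wc z₁ z₂ := by
  haveI : Fact (Nat.Prime 2) := ⟨Nat.prime_two⟩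
  obtain ⟨g, hg⟩ := CfsgLib.Techniques.exists_conj_mem_sylow S
    (isPGroup_pair (B.ctx.sq₁ ha) (B.ctx.sq₂ hb) hab)
  refine ⟨g, ?_⟩
  rw [map_Wc]
  exact B.wc_base (B.ctx.conj₁ a ha g) (B.ctx.conj₂ b hb g)
    (hg a (subset_closure (Or.inl rfl))) (hg b (subset_closure (Or.inr rfl)))

/-- An involution of the second class in the normaliser of a pair belongs to a pair with the same
subgroup. -/
theorem exists_pair {a b y : G} (ha : a ∈ I₁) (hb : b ∈ I₂) (hab : Commute a b) (hy : y ∈ I₂)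
    (hyN : y ∈ normalizer (Wc a b : Set G)) : ∃ x ∈ I₁, Commute x y ∧ Wc x y = Wc a b := by
  obtain ⟨g, hg⟩ := B.exists_conj_eq ha hb hab
  have hyM : g * y * g⁻¹ ∈ normalizer (Wc z₁ z₂ : Set G) := by
    rw [mem_norm_conj]
    have : Wc (g⁻¹ * z₁ * g) (g⁻¹ * z₂ * g) = Wc a b := by
      refine Subgroup.map_injective (f := (MulAut.conj g).toMonoidHom) (MulAut.conj g).injective ?_
      rw [hg, map_Wc]; congr 1 <;> group
    rwa [this]
  have hy' := B.ctx.conj₂ y hy g
  obtain ⟨h, hh, hhS⟩ := exists_conj_into S B.sylow_le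
    ((closure_le _).2 (Set.singleton_subset_iff.2 hyM) : closure ({g * y * g⁻¹} : Set G) ≤ _)
    (CfsgLib.TwoFusion.DihedralProduct.isPGroup_closure (s := ({g * y * g⁻¹} : Set G))
      (by rintro v rfl; exact B.ctx.sq₂ hy') (by rintro v rfl w rfl; exact Commute.refl _))
  have hS := hhS _ (subset_closure rfl)
  have hy'' : h * (g * y * g⁻¹) * h⁻¹ = h * g * y * (h * g)⁻¹ := by group
  rw [hy''] at hS
  refine ⟨(h * g)⁻¹ * z₁ * (h * g), ?_, ?_, ?_⟩
  · simpa using B.ctx.conj₁ z₁ B.in₁ (h * g)⁻¹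
  · have := commute_conj (B.cen₁ _ hS).symm (h * g)⁻¹
    rwa [inv_inv, show (h * g)⁻¹ * (h * g * y * (h * g)⁻¹) * (h * g) = y by group] at this
  · refine Subgroup.map_injective (f := (MulAut.conj (h * g)).toMonoidHom) (MulAut.conj (h * g)).injective ?_
    rw [map_Wc, show h * g * ((h * g)⁻¹ * z₁ * (h * g)) * (h * g)⁻¹ = z₁ by group,
      B.wc_base B.in₁ (B.ctx.conj₂ y hy _) (B.split.le₁ B.mem₁) hS,
      show MulAut.conj (h * g) = MulAut.conj h * MulAut.conj g from map_mul _ _ _]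
    show Wc z₁ z₂ = (Wc a b).map ((MulAut.conj h).toMonoidHom.comp (MulAut.conj g).toMonoidHom)
    rw [← map_map, hg]
    exact (map_eq_iff.2 hh).symm

theorem norm_of_commute {a b y y' : G} (ha : a ∈ I₁) (hb : b ∈ I₂) (hab : Commute a b) (hy : y ∈ I₂)
    (hy' : y' ∈ I₂) (hc : Commute y y') (hyN : y ∈ normalizer (Wc a b : Set G)) :
    y' ∈ normalizer (Wc a b : Set G) := by
  obtain ⟨x, hx, hxy, he⟩ := B.exists_pair ha hb hab hy hyN
  exact he ▸ B.ctx.norm_of_commute hx hy hy' hxy hc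

/-- The subgroup of the central pair is not trivial. -/
theorem wc_ne_bot [IsSimpleGroup G] : Wc z₁ z₂ ≠ ⊥ := by
  intro hW
  have hfix : ∀ {a b : G}, a ∈ I₁ → b ∈ I₂ → Commute a b → ∀ u ∈ coreCent ({a * b} : Set G),
      Commute u a := by
    intro a b ha hb hab u hu
    obtain ⟨g, hg⟩ := B.exists_conj_eq ha hb hab
    have h1 := mem_map_of_mem (MulAut.conj g).toMonoidHom
      (commutator_mixed_le (B.ctx.sq₁ ha) (B.ctx.sq₂ hb) hab hu)
    rw [hg, hW, mem_bot] at h1
    exact commutatorElement_eq_one_iff_commute.1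
      ((MulAut.conj g).injective (h1.trans (map_one (MulAut.conj g)).symm))
  have hall : ∀ x ∈ I₁, ∀ y ∈ I₂, Commute x y := by
    intro x hx y hy
    obtain ⟨q, -, -, hx', hc, hcx⟩ := B.ctx.pair_twice_odd hx hy
    set r := x * y with hr
    set x' := r ^ q * y with hx'def
    have hxi : x' * y = r ^ q := by rw [hx'def, mul_assoc, B.ctx.sq₂ hy, mul_one]
    obtain ⟨u, hu, h1, -⟩ := B.ctx.cen_mixed hx' hy hc (g := r) (hxi ▸ (Commute.refl r).pow_right q)
    have hrx : Commute r x' := by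
      have := (hfix hx' hy hc u hu).inv_left.mul_left h1
      rwa [inv_mul_cancel_left] at this
    have hry : Commute r y := by
      have := hrx.inv_right.mul_right ((Commute.refl r).pow_right q)
      rwa [← hxi, inv_mul_cancel_left] at this
    refine commutatorElement_eq_one_iff_commute.1 ?_
    have hxy : Commute (x * y) y := hry
    have e : x * y = y * x := by
      have h := hxy.eq
      rw [mul_assoc, B.ctx.sq₂ hy, mul_one] at h
      calc x * y = y * (x * y) * y := by rw [← h]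
        _ = y * x := by rw [mul_assoc, mul_assoc x y y, B.ctx.sq₂ hy, mul_one]
    exact commutatorElement_eq_one_iff_mul_comm.2 e
  haveI hn : (closure I₁).Normal := ⟨fun v hv g => by
    have hle : (closure I₁).map (MulAut.conj g).toMonoidHom ≤ closure I₁ := by
      rw [MonoidHom.map_closure]
      refine closure_mono ?_
      rintro _ ⟨w, hw, rfl⟩
      exact B.ctx.conj₁ w hw g
    exact hle (mem_map_of_mem _ hv)⟩
  have htop : closure I₁ = ⊤ := hn.eq_bot_or_eq_top.resolve_left fun e =>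
    B.ctx.ne_one₁ B.in₁ (mem_bot.1 (e ▸ subset_closure B.in₁))
  have hle : closure I₁ ≤ centralizer ({z₂} : Set G) :=
    (closure_le _).2 fun v hv => mem_centralizer_singleton_iff.2 (hall v hv z₂ B.in₂).eq
  exact B.ctx.cen_ne_top (B.ctx.ne_one₂ B.in₂) (eq_top_iff.2 (htop ▸ hle))

theorem norm_ne_top [IsSimpleGroup G] : normalizer (Wc z₁ z₂ : Set G) ≠ ⊤ := by
  intro h
  haveI := normalizer_eq_top_iff.1 h
  rcases (inferInstance : (Wc z₁ z₂).Normal).eq_bot_or_eq_top with e | e
  · exact B.wc_ne_bot e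
  · have := B.ctx.odd_Wc B.in₁ B.in₂ B.comm₁₂
    rw [e, Subgroup.card_top] at this
    have h2 := this.of_dvd_nat (orderOf_dvd_natCard z₁)
    rw [B.ord₁] at h2
    exact absurd h2 (by decide)

theorem norm_ne_top' [IsSimpleGroup G] {a b : G} (ha : a ∈ I₁) (hb : b ∈ I₂) (hab : Commute a b) :
    normalizer (Wc a b : Set G) ≠ ⊤ := by
  intro h
  obtain ⟨g, hg⟩ := B.exists_conj_eq ha hb hab
  haveI := normalizer_eq_top_iff.1 h
  rw [map_eq_iff.2 (h ▸ mem_top g)] at hg
  exact B.norm_ne_top (hg ▸ h)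

/-- If `x` and `y` of the two classes normalise one of the subgroups, every one normalised by `y` is
normalised by `x * y * x`. -/
theorem norm_conj_mem [IsSimpleGroup G] {a b a' b' x y : G} (ha : a ∈ I₁) (hb : b ∈ I₂)
    (hab : Commute a b) (hx : x ∈ I₁) (hy : y ∈ I₂) (hxM : x ∈ normalizer (Wc a b : Set G))
    (hyM : y ∈ normalizer (Wc a b : Set G)) (ha' : a' ∈ I₁) (hb' : b' ∈ I₂) (hab' : Commute a' b')
    (hyN : y ∈ normalizer (Wc a' b' : Set G)) : x * y * x ∈ normalizer (Wc a' b' : Set G) := by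
  haveI : Fact (Nat.Prime 2) := ⟨Nat.prime_two⟩
  set M := normalizer (Wc a b : Set G) with hM
  set O := (oddCore M).map M.subtype with hO
  have hOodd : Odd (Nat.card O) := by
    rw [hO, card_map_of_injective M.subtype_injective]
    exact CfsgLib.ZStar.odd_card_oddCore M
  have hMO : M ≤ normalizer (O : Set G) := by
    rw [le_normalizer_iff]
    rintro m hm _ ⟨k, hk, rfl⟩
    exact ⟨⟨m, hm⟩ * k * ⟨m, hm⟩⁻¹, (inferInstance : (oddCore M).Normal).conj_mem _ hk _, rfl⟩
  have hxyO := B.ctx.below M (B.norm_ne_top' ha hb hab) x hx y hy hxM hyM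
  rw [commutatorElement_def, involution_inv (B.ctx.inv₁ x hx), involution_inv (B.ctx.inv₂ y hy)] at hxyO
  obtain ⟨o, ho, hoe⟩ := exists_conj_of_mul_mem hOodd
    (show orderOf (x * y * x) = 2 by
      conv_lhs => rw [show x * y * x = x * y * x⁻¹ by rw [involution_inv (B.ctx.inv₁ x hx)]]
      rw [orderOf_conj]; exact B.ctx.inv₂ y hy) (B.ctx.inv₂ y hy) hxyO
  obtain ⟨y', hy', hne, hc⟩ := B.ctx.swap.exists_partner hy
  have hy'M : y' ∈ M := B.norm_of_commute ha hb hab hy hy' hc hyM
  set A := closure ({y, y'} : Set G) with hA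
  let L : Subgroup G :=
    { carrier := {g | ∀ p q : G, p ∈ I₁ → q ∈ I₂ → Commute p q →
        (y ∈ normalizer (Wc p q : Set G) ↔ g * y * g⁻¹ ∈ normalizer (Wc p q : Set G))}
      one_mem' := fun p q _ _ _ => by simp
      mul_mem' := fun {g h} hg hh p q hp hq hpq => by
        have h1 := hg p q hp hq hpq
        have h2 := hh (g⁻¹ * p * g) (g⁻¹ * q * g) (by simpa using B.ctx.conj₁ p hp g⁻¹)
          (by simpa using B.ctx.conj₂ q hq g⁻¹) (by simpa using commute_conj hpq g⁻¹)
        rw [← mem_norm_conj, ← mem_norm_conj, ← h1] at h2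
        rw [h2, show g * h * y * (g * h)⁻¹ = g * (h * y * h⁻¹) * g⁻¹ by group]
      inv_mem' := fun {g} hg p q hp hq hpq => by
        have h1 := hg (g * p * g⁻¹) (g * q * g⁻¹) (B.ctx.conj₁ p hp g) (B.ctx.conj₂ q hq g)
          (commute_conj hpq g)
        have h2 := mem_norm_conj g⁻¹ p q (g * y * g⁻¹)
        have h3 := mem_norm_conj g⁻¹ p q y
        rw [inv_inv] at h2 h3
        rw [show g⁻¹ * (g * y * g⁻¹) * g = y by group, ← h1] at h2
        rw [inv_inv]
        exact h2.trans h3.symm }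
  have hOL : O ≤ L := by
    refine CfsgLib.Signalizer.Solv.le_of_fixed_le (p := 2)
      (isElementaryAbelian_pair (B.ctx.sq₂ hy) (B.ctx.sq₂ hy') hc) ?_
      (((closure_le _).2 (by rintro v (rfl | rfl) <;> assumption) : A ≤ M).trans hMO) ?_ fun d hd hd1 => ?_
    · rw [card_closure_pair (B.ctx.inv₂ y hy) (B.ctx.inv₂ y' hy') hc hne.symm]
      norm_num
    · exact fun h => Nat.not_even_iff_odd.2 hOodd (even_iff_two_dvd.2 h)
    · rintro k ⟨-, hk⟩ p q hp hq hpq
      have hdI := B.ctx.swap.mem_four hy hy' hne.symm hc hd hd1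
      have hdy : Commute y d := congrArg Subtype.val
        ((isElementaryAbelian_pair (B.ctx.sq₂ hy) (B.ctx.sq₂ hy') hc).1.1.comm
          ⟨y, subset_closure (Or.inl rfl)⟩ ⟨d, hd⟩)
      have hkd : k * d * k⁻¹ = d := by
        rw [mem_centralizer_singleton_iff.1 hk, mul_inv_cancel_right]
      have hkdy : Commute (k * y * k⁻¹) d := hkd ▸ commute_conj hdy k
      refine ⟨fun h => ?_, fun h => ?_⟩
      · exact B.norm_of_commute hp hq hpq hdI (B.ctx.conj₂ y hy k) hkdy.symm
          (B.norm_of_commute hp hq hpq hy hdI hdy h)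
      · exact B.norm_of_commute hp hq hpq hdI hy hdy.symm
          (B.norm_of_commute hp hq hpq (B.ctx.conj₂ y hy k) hdI hkdy h)
  have h := (hOL (inv_mem ho) a' b' ha' hb' hab').1 hyN
  rw [show o⁻¹ * y * o⁻¹⁻¹ = x * y * x by
    rw [inv_inv, show o⁻¹ * y * o = o⁻¹ * (o * (x * y * x) * o⁻¹) * o by rw [hoe]]; group] at h
  exact h

/-- No simple group carries the standing data. -/
theorem false_of_simple [IsSimpleGroup G] : False := by
  have key : ∀ g ∈ closure I₁, ∀ a b : G, a ∈ I₁ → b ∈ I₂ → Commute a b →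
      z₂ ∈ normalizer (Wc a b : Set G) → g * z₂ * g⁻¹ ∈ normalizer (Wc a b : Set G) := by
    have step : ∀ x ∈ I₁, ∀ a b : G, a ∈ I₁ → b ∈ I₂ → Commute a b →
        z₂ ∈ normalizer (Wc a b : Set G) → x * z₂ * x⁻¹ ∈ normalizer (Wc a b : Set G) := by
      intro x hx a b ha hb hab hz
      obtain ⟨q, -, -, hx', hc, hcx⟩ := B.ctx.pair_twice_odd hx B.in₂
      rw [involution_inv (B.ctx.inv₁ x hx)]
      refine B.norm_conj_mem hx' B.in₂ hc hx B.in₂ (B.ctx.mixed_le hx' B.in₂ hc ?_)
        (B.ctx.pair_cen_le hc.symm (Commute.refl z₂)) ha hb hab hz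
      rw [mul_assoc, B.ctx.sq₂ B.in₂, mul_one]
      exact hcx.symm
    intro g hg
    induction hg using closure_induction'' with
    | mem x hx => exact step x hx
    | inv_mem x hx => rw [involution_inv (B.ctx.inv₁ x hx)]; exact step x hx
    | one => intro a b _ _ _ h; simpa using h
    | mul g h _ _ hg hh =>
      intro a b ha hb hab hz
      rw [show g * h * z₂ * (g * h)⁻¹ = g * (h * z₂ * h⁻¹) * g⁻¹ by group, mem_norm_conj]
      refine hh _ _ (by simpa using B.ctx.conj₁ a ha g⁻¹) (by simpa using B.ctx.conj₂ b hb g⁻¹)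
        (by simpa using commute_conj hab g⁻¹) ?_
      rw [← mem_norm_conj]
      exact hg a b ha hb hab hz
  haveI hn : (closure I₁).Normal := ⟨fun v hv g => by
    have hle : (closure I₁).map (MulAut.conj g).toMonoidHom ≤ closure I₁ := by
      rw [MonoidHom.map_closure]
      refine closure_mono ?_
      rintro _ ⟨w, hw, rfl⟩
      exact B.ctx.conj₁ w hw g
    exact hle (mem_map_of_mem _ hv)⟩
  have htop : closure I₁ = ⊤ := hn.eq_bot_or_eq_top.resolve_left fun e =>
    B.ctx.ne_one₁ B.in₁ (mem_bot.1 (e ▸ subset_closure B.in₁))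
  have hle : normalClosure ({z₂} : Set G) ≤ normalizer (Wc z₁ z₂ : Set G) := by
    refine (closure_le _).2 fun w hw => ?_
    obtain ⟨v, hv', hv⟩ := Group.mem_conjugatesOfSet_iff.1 hw
    rw [Set.mem_singleton_iff.1 hv'] at hv
    obtain ⟨g, rfl⟩ := isConj_iff.1 hv
    exact key g (htop ▸ mem_top g) z₁ z₂ B.in₁ B.in₂ B.comm₁₂
      (B.sylow_le (B.split.le₂ B.mem₂))
  have hne : normalClosure ({z₂} : Set G) = ⊤ :=
    normalClosure_normal.eq_bot_or_eq_top.resolve_left fun e =>
      B.ctx.ne_one₂ B.in₂ (mem_bot.1 (e ▸ subset_normalClosure rfl))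
  exact B.norm_ne_top (eq_top_iff.2 (hne ▸ hle))

end Base

end CfsgLib.TwoFusion.ProductFusion
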